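import Cfsg.Agent.H88.Walter.Piece
import Cfsg.Agent.H21.Walter.Pieces
import Cfsg.Agent.H21.Walter.Glue

/-!
# The data of the simple pieces used by the cores step in rank at least four
-/

set_option autoImplicit false

namespace Cfsg.Agent.H88.Walter

open Subgroup

universe u

variable {L : Type u} [Group L]

/-- An odd group of automorphisms fixing `P` pointwise and normalised by `C(x)` is trivial. -/
def FixTrivialAt (P : Subgroup L) (x : L) : Prop :=
  ∀ W : Subgroup (MulAut L), Odd (Nat.card W) → (∀ w ∈ W, Fixes w P) →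
    (∀ c ∈ centralizer {x}, MulAut.conj c ∈ normalizer (W : Set (MulAut L))) → W = ⊥

/-- The elements of odd order centralising an involution of `P` and inverted by an element of `P`. -/
def invSet (P : Subgroup L) : Set L :=
  {y | Odd (orderOf y) ∧ ∃ v ∈ P, v ≠ 1 ∧ Commute y v ∧ ∃ s ∈ P, s * y * s⁻¹ = y⁻¹}

/-- The unbalanced pieces: `|P| = 4`, and `L` is generated by `P` and the odd tori of its
involutions. -/
def Unbal (P : Subgroup L) : Prop :=
  Nat.card P = 4 ∧ closure ((P : Set L) ∪ invSet P) = ⊤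

/-- What is used about a simple piece and a Sylow 2-subgroup of it. -/
structure GoodPiece (P : Subgroup L) : Prop where
  sq : ∀ x ∈ P, x * x = 1
  four : 4 ≤ Nat.card P
  cyc : ∃ y ∈ normalizer (P : Set L), ∀ x ∈ P, ∀ z ∈ P, x ≠ 1 → z ≠ 1 →
    ∃ k : ℕ, y ^ k * x * (y ^ k)⁻¹ = z
  fix : ∀ x ∈ P, x ≠ 1 → FixTrivialAt P x
  type : Unbal P ∨ ∀ x ∈ P, x ≠ 1 → H21.Walter.OddTrivialAt x

theorem GoodPiece.pieceData {P : Subgroup L} (h : GoodPiece P) : H21.Walter.PieceData L P :=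
  ⟨h.sq, h.type.imp And.left id⟩

/-- The facts about the simple groups of the classification. -/
def ShapeData : Prop :=
  ∀ (L : Type u) [Group L] [Finite L], IsSimpleGroup L → ¬ IsMulCommutative L →
    H10.Walter.AbSyl L → H10.Walter.Shape L → ∀ P : Sylow 2 L, GoodPiece (P : Subgroup L)

/-- The linear lemma: an odd automizer of `A = Q × V` containing an element that fixes `Q` pointwise
and whose powers are transitive on `V`, with `|Q| ≤ |V|`, is reducible on `A` if `|A| ≥ 16`. -/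
def RedHyp : Prop :=
  ∀ (G : Type u) [Group G] [Finite G] (A Q V : Subgroup G), Cfsg.IsElementaryAbelian 2 A →
    16 ≤ Nat.card A →
    (∀ n ∈ normalizer (A : Set G), ∃ k : ℕ, Odd k ∧ n ^ k ∈ centralizer (A : Set G)) →
    Q ≤ A → V ≤ A → V ⊓ Q = ⊥ → V ⊔ Q = A → Q ≠ ⊥ → Nat.card Q ≤ Nat.card V →
    (∃ n ∈ normalizer (A : Set G), (∀ q ∈ Q, n * q * n⁻¹ = q) ∧ (∀ x ∈ V, n * x * n⁻¹ ∈ V) ∧
      ∀ v ∈ V, ∀ w ∈ V, v ≠ 1 → w ≠ 1 → ∃ k : ℕ, n ^ k * v * (n ^ k)⁻¹ = w) →
    ∃ X : Subgroup G, X ≤ A ∧ X ≠ ⊥ ∧ X ≠ A ∧ normalizer (A : Set G) ≤ normalizer (X : Set G)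

end Cfsg.Agent.H88.Walter
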