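import Cfsg.Agent.H88.Walter.Data
import Cfsg.Agent.H18.Walter.LinMul

/-!
# The linear lemma on `N(A)`
-/

set_option autoImplicit false
set_option linter.unusedSectionVars false
set_option linter.style.haveILetI false

namespace Cfsg.Agent.H88.Walter

open Subgroup

universe u

/-- The linear lemma holds. -/
theorem redHyp : RedHyp.{u} := by
  intro G _ _ A Q V hA h16 hodd hQA hVA hdis hsup hQ hQV hn
  obtain ⟨n, hnA, hnQ, hnV, ht⟩ := hn
  haveI : IsMulCommutative A := hA.1
  letI : CommGroup A :=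
    { (inferInstance : Group A) with mul_comm := IsMulCommutative.is_comm.comm }
  set f := A.normalizerMonoidHom
  set H : Subgroup (MulAut A) := f.range
  have hHodd : Odd (Nat.card H) := by
    rw [← Nat.not_even_iff_odd]
    intro he
    haveI : Fact (Nat.Prime 2) := ⟨Nat.prime_two⟩
    obtain ⟨⟨φ, x, rfl⟩, hφ⟩ := exists_prime_orderOf_dvd_card' (G := H) 2 he.two_dvd
    rw [← Subgroup.orderOf_coe] at hφ
    change orderOf (f x) = 2 at hφ
    obtain ⟨k, hk, hkc⟩ := hodd x x.2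
    have h1 : f x ^ k = 1 := by
      rw [← map_pow]
      refine MulEquiv.ext fun a => Subtype.ext ?_
      show ((x ^ k : _) : G) * (a : G) * ((x ^ k : _) : G)⁻¹ = a
      rw [SubmonoidClass.coe_pow, ← mem_centralizer_iff.1 hkc a a.2, mul_inv_cancel_right]
    have h2 := orderOf_dvd_of_pow_eq_one h1
    rw [hφ] at h2
    exact Nat.not_even_iff_odd.2 hk (even_iff_two_dvd.2 h2)
  haveI : Group.IsSolvable H := Cfsg.Agent.S0205.result hHodd
  set τ := f ⟨n, hnA⟩
  have hiter : ∀ (i : ℕ) (a : A), ((τ ^ i) a : G) = n ^ i * a * (n ^ i)⁻¹ := fun i a => by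
    rw [← map_pow]
    show ((⟨n, hnA⟩ ^ i : normalizer (A : Set G)) : G) * (a : G) *
      ((⟨n, hnA⟩ ^ i : normalizer (A : Set G)) : G)⁻¹ = _
    rw [SubmonoidClass.coe_pow]
  have hcompl : IsCompl (Q.subgroupOf A) (V.subgroupOf A) := by
    refine ⟨disjoint_iff.2 ((eq_bot_iff_forall _).2 fun x hx => Subtype.ext ?_),
      codisjoint_iff.2 ?_⟩
    · have h1 : (x : G) ∈ V ⊓ Q := ⟨hx.2, hx.1⟩
      rwa [hdis, mem_bot] at h1
    · rw [sup_comm, ← subgroupOf_sup hVA hQA, hsup, subgroupOf_self]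
  obtain ⟨X, hX1, hXtop, hXinv⟩ := H18.Walter.exists_invariant (W := A)
    (fun w => Subtype.ext (by
      show (w : G) * w = 1
      rw [← pow_two]; exact hA.2 w w.2))
    h16 H hHodd τ ⟨_, rfl⟩ (Q.subgroupOf A) (V.subgroupOf A)
    (fun e => hQ (by
      rw [subgroupOf_eq_bot] at e
      exact e.eq_bot_of_le hQA))
    (fun q hq => Subtype.ext (hnQ q hq))
    (fun v hv => hnV v hv)
    (fun v hv hv1 w hw hw1 => by
      obtain ⟨i, hi⟩ := ht v hv w hw (fun e => hv1 (Subtype.ext e)) (fun e => hw1 (Subtype.ext e))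
      exact ⟨i, Subtype.ext ((hiter i v).trans hi)⟩)
    hcompl (by
      rw [Nat.card_congr (subgroupOfEquivOfLe hQA).toEquiv,
        Nat.card_congr (subgroupOfEquivOfLe hVA).toEquiv]
      exact hQV)
  refine ⟨X.map A.subtype, map_subtype_le _, fun e => hX1
    ((map_eq_bot_iff_of_injective _ A.subtype_injective).1 e), fun e => hXtop ?_, fun g hg => ?_⟩
  · refine map_injective A.subtype_injective (e.trans ?_)
    rw [← MonoidHom.range_eq_map, range_subtype]
  · refine Coprime.mem_normalizer_of_map_conj (eq_of_le_of_card_ge ?_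
      (by rw [Coprime.card_map_conj]))
    rintro _ ⟨_, ⟨a, ha, rfl⟩, rfl⟩
    exact ⟨f ⟨g, hg⟩ a, hXinv _ ⟨_, rfl⟩ a ha, rfl⟩

end Cfsg.Agent.H88.Walter
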