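import Cfsg.Agent.H88.Walter.Final
import Cfsg.Agent.H88.Walter.Red
import Cfsg.Agent.H21.Walter.Gen
import Cfsg.Agent.H21.Walter.Glue
import Cfsg.Agent.H21.Walter.Two

/-!
# The cores step in rank at least four
-/

set_option autoImplicit false
set_option linter.unusedSectionVars false

namespace Cfsg.Agent.H88.Walter

open Subgroup

universe u

variable {G : Type u} [Group G] [Finite G] {S : Sylow 2 G} {A : Subgroup G}

theorem Ctx.pairHyp (h : Ctx S A) (hd : ShapeData.{u}) : PairHyp A := by
  intro b hb hb1 K hK hq4 hqv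
  refine H21.Walter.pair h redHyp.{u} inf_le_left inf_le_left (h.vp_inf_qp hd hb hK) ?_
    (fun e => hb1 (by simpa [e] using h.self_mem_qp hd hb hb1 hK)) hq4 hqv
    (h.four_le_vp hd hb hb1 hK) ?_
  · refine le_antisymm (sup_le inf_le_left inf_le_left) fun a ha => ?_
    obtain ⟨v, hv, q, hq, e⟩ := h.exists_decomp hd hb hb1 hK ha
    exact e ▸ mul_mem_sup hv hq
  · obtain ⟨n, hn, hnq, hnv, ht⟩ := h.exists_cyc hd hb hb1 hK
    exact ⟨n, hn.1, hnq, hnv, ht⟩

theorem Ctx.cores (h : Ctx S A) (hd : ShapeData.{u}) : H10.Walter.CoresTrivial G := by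
  rcases H21.Walter.gen8 h hd redHyp.{u} with hc | hgen
  · exact hc
  have := h.cfg.simple
  have hbal := H21.Walter.isKHalfBalanced_of_cfg h.cfg h.elem
    fun L _ _ hs hn ha hsh P => (hd L hs hn ha hsh P).pieceData
  have hΔ : DeltaHyp A := fun E hE hE8 =>
    (H21.Walter.trivial_of_gen_two (k := 2) (by norm_num) h.elem h.large hbal
      fun M hN hM => hgen M hN fun E hE hE8 => hM E hE (by simpa using hE8)).1 E hE (by rw [hE8]; norm_num)
  exact h.coresTrivial hd hΔ (h.pairHyp hd)

/-- The cores step in rank at least four, from the facts about the pieces. -/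
theorem coresStepLarge (hd : ShapeData.{u}) : H10.Walter.CoresStepLarge.{u} :=
  fun G _ _ hG hno _ h4 => by
    obtain ⟨S, A, h⟩ := exists_ctx hG hno h4
    exact h.cores hd

end Cfsg.Agent.H88.Walter
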