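import Cfsg.Agent.H10.Walter.Local
import Cfsg.Agent.H70.Balanced.Criterion
import Cfsg.Agent.H47.Delta
import Cfsg.Agent.Fusion.Basic
import Cfsg.Agent.S0074

/-!
# The setting of the cores step in rank at least four

`A = Ω₁(S)` for a Sylow 2-subgroup `S` of a configuration, `|A| ≥ 16`.
-/

set_option autoImplicit false
set_option linter.unusedSectionVars false
set_option linter.style.haveILetI false

namespace Cfsg.Agent.H88.Walter

open Subgroup Cfsg.Agent

universe u

variable {G : Type u} [Group G] [Finite G]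

local instance fact_two : Fact (Nat.Prime 2) := ⟨Nat.prime_two⟩

/-- `O(C(b))`. -/
abbrev core (b : G) : Subgroup G :=
  Cfsg.centralizerPPrimeCore 2 b

theorem core_odd (b : G) : Odd (Nat.card (core b)) :=
  Nat.not_even_iff_odd.1 fun h => H47.not_dvd_centralizerPPrimeCore b h.two_dvd

theorem core_le (b : G) : core b ≤ centralizer {b} :=
  H47.centralizerPPrimeCore_le b

theorem core_normal (b : G) : centralizer {b} ≤ normalizer (core b : Set G) :=
  H47.centralizer_le_normalizer_core b

/-- The setting: `A = Ω₁(S)` has order at least 16. -/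
structure Ctx (S : Sylow 2 G) (A : Subgroup G) : Prop where
  cfg : H10.Walter.Cfg G
  noSE : H10.Walter.NoSE G
  mem_iff : ∀ x : G, x ∈ A ↔ x ∈ (S : Subgroup G) ∧ x * x = 1
  large : 16 ≤ Nat.card A

/-- The setting exists in rank at least four. -/
theorem exists_ctx (h : H10.Walter.Cfg G) (hno : H10.Walter.NoSE G) (h4 : ¬ Cfsg.PRankLE 2 3 G) :
    ∃ (S : Sylow 2 G) (A : Subgroup G), Ctx S A := by
  unfold Cfsg.PRankLE at h4
  push Not at h4
  obtain ⟨E, hEc, hE2, hE⟩ := h4
  obtain ⟨n, hn⟩ := IsPGroup.iff_card.1 (H47.isPGroup_of_elementaryAbelian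
    (show Cfsg.IsElementaryAbelian 2 E from ⟨hEc, hE2⟩))
  obtain ⟨S, hES⟩ := (H47.isPGroup_of_elementaryAbelian
    (show Cfsg.IsElementaryAbelian 2 E from ⟨hEc, hE2⟩)).exists_le_sylow
  let A : Subgroup G :=
    { carrier := {x | x ∈ (S : Subgroup G) ∧ x * x = 1}
      one_mem' := ⟨one_mem _, one_mul 1⟩
      mul_mem' := fun {a b} ha hb => ⟨mul_mem ha.1 hb.1, by
        have e := (h.absyl.comm S.isPGroup' ha.1 hb.1).eq
        calc a * b * (a * b) = a * (b * a) * b := by group
          _ = a * (a * b) * b := by rw [e]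
          _ = (a * a) * (b * b) := by group
          _ = 1 := by rw [ha.2, hb.2, one_mul]⟩
      inv_mem' := fun {a} ha => ⟨inv_mem ha.1, by rw [← mul_inv_rev, ha.2, inv_one]⟩ }
  refine ⟨S, A, h, hno, fun x => Iff.rfl, ?_⟩
  have hle : E ≤ A := fun x hx => ⟨hES hx, by rw [← pow_two]; exact hE2 x hx⟩
  refine le_trans ?_ (card_le_of_le hle)
  rw [hn] at hE ⊢
  exact (Nat.pow_le_pow_right (by norm_num : 1 ≤ 2)
    ((Nat.pow_lt_pow_iff_right (by norm_num)).1 hE : 3 < n)).trans' (by norm_num)

namespace Ctx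

variable {S : Sylow 2 G} {A : Subgroup G} (h : Ctx S A)
include h

theorem le_S : A ≤ (S : Subgroup G) := fun x hx => ((h.mem_iff x).1 hx).1

theorem sq {x : G} (hx : x ∈ A) : x * x = 1 := ((h.mem_iff x).1 hx).2

theorem inv_eq {x : G} (hx : x ∈ A) : x⁻¹ = x := inv_eq_of_mul_eq_one_right (h.sq hx)

theorem orderOf_eq {x : G} (hx : x ∈ A) (h1 : x ≠ 1) : orderOf x = 2 :=
  orderOf_eq_prime (by rw [pow_two, h.sq hx]) h1

theorem elem : Cfsg.IsElementaryAbelian 2 A :=
  ⟨⟨⟨fun a b => Subtype.ext (h.cfg.absyl.comm S.isPGroup' (h.le_S a.2) (h.le_S b.2)).eq⟩⟩,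
    fun a ha => by rw [pow_two]; exact h.sq ha⟩

theorem isPGroup : IsPGroup 2 A := H47.isPGroup_of_elementaryAbelian h.elem

theorem comm {x y : G} (hx : x ∈ (S : Subgroup G)) (hy : y ∈ (S : Subgroup G)) : Commute x y :=
  h.cfg.absyl.comm S.isPGroup' hx hy

theorem S_le_centralizer : (S : Subgroup G) ≤ centralizer (A : Set G) := fun x hx =>
  mem_centralizer_iff.2 fun a ha => (h.comm (h.le_S ha) hx).eq

theorem S_le_cent {a : G} (ha : a ∈ A) : (S : Subgroup G) ≤ centralizer {a} :=
  h.S_le_centralizer.trans (centralizer_le (Set.singleton_subset_iff.2 ha))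

theorem le_cent {a : G} (ha : a ∈ A) : A ≤ centralizer {a} := h.le_S.trans (h.S_le_cent ha)

theorem normalizer_le : normalizer ((S : Subgroup G) : Set G) ≤ normalizer (A : Set G) :=
  fun n hn => mem_normalizer_iff.2 fun x => by
    rw [h.mem_iff, h.mem_iff]
    exact and_congr (mem_normalizer_iff.1 hn x) ⟨fun e => by
      rw [show n * x * n⁻¹ * (n * x * n⁻¹) = n * (x * x) * n⁻¹ by group, e, mul_one, mul_inv_cancel],
      fun e => by
      have := congrArg (fun w => n⁻¹ * w * n) e
      simpa [mul_assoc] using this⟩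

/-- Fusion in `A` is controlled by `N(A)`. -/
theorem fusion {a b g : G} (ha : a ∈ A) (hb : b ∈ A) (hg : g * a * g⁻¹ = b) :
    ∃ n ∈ normalizer (A : Set G), n * a * n⁻¹ = b := by
  have hc : ∀ x ∈ A, x ∈ centralizer ((S : Subgroup G) : Set G) := fun x hx =>
    mem_centralizer_iff.2 fun y hy => (h.comm hy (h.le_S hx)).eq
  obtain ⟨n, hn, e⟩ := Fusion.burnside_fusion_centralizer S (hc a ha) (g := g) (hg ▸ hc b hb)
  exact ⟨n, h.normalizer_le hn, e.trans hg⟩

/-- Every involution has a conjugate in `A`. -/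
theorem exists_conj {t : G} (ht : orderOf t = 2) : ∃ g : G, g * t * g⁻¹ ∈ A := by
  have hp : IsPGroup 2 ↥(zpowers t) := IsPGroup.of_card (n := 1) (by rw [Nat.card_zpowers, ht, pow_one])
  obtain ⟨g, hg⟩ := H39.exists_conj_le_sylow hp S
  have ht' : g * t * g⁻¹ ∈ (S : Subgroup G) := hg t (mem_zpowers t)
  refine ⟨g, (h.mem_iff _).2 ⟨ht', ?_⟩⟩
  rw [show g * t * g⁻¹ * (g * t * g⁻¹) = g * t ^ 2 * g⁻¹ by rw [pow_two]; group, ← ht,
    pow_orderOf_eq_one, mul_one, mul_inv_cancel]

/-- The automizer of `A` has odd order. -/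
theorem odd_index :
    Odd ((centralizer (A : Set G)).subgroupOf (normalizer (A : Set G))).index := by
  have hS : (S : Subgroup G) ≤ centralizer (A : Set G) := h.S_le_centralizer
  have h1 := Subgroup.relIndex_mul_relIndex (S : Subgroup G) (centralizer (A : Set G))
    (normalizer (A : Set G)) hS (centralizer_le_normalizer _)
  have h2 : (S : Subgroup G).relIndex (normalizer (A : Set G)) ∣ (S : Subgroup G).index :=
    relIndex_dvd_index_of_le (hS.trans (centralizer_le_normalizer _))
  exact Odd.of_dvd_nat (Nat.odd_iff.2 (Nat.two_dvd_ne_zero.1 S.not_dvd_index))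
    ((Dvd.intro_left _ h1).trans h2)

/-- Some odd power of an element of `N(A)` centralises `A`. -/
theorem exists_odd_pow {n : G} (hn : n ∈ normalizer (A : Set G)) :
    ∃ k : ℕ, Odd k ∧ n ^ k ∈ centralizer (A : Set G) := by
  haveI : ((centralizer (A : Set G)).subgroupOf (normalizer (A : Set G))).Normal :=
    normal_subgroupOf_of_le_normalizer fun x hx => by
      refine mem_normalizer_iff.2 fun y => ?_
      simp only [mem_centralizer_iff]
      refine ⟨fun hy a ha => ?_, fun hy a ha => ?_⟩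
      · have := congrArg (fun w => x * w * x⁻¹) (hy _ ((mem_normalizer_iff''.1 hx a).1 ha))
        simpa [mul_assoc] using this
      · have := congrArg (fun w => x⁻¹ * w * x) (hy _ ((mem_normalizer_iff.1 hx a).1 ha))
        simpa [mul_assoc] using this
  exact ⟨_, h.odd_index, by
    simpa [mem_subgroupOf] using
      pow_index_mem ((centralizer (A : Set G)).subgroupOf (normalizer (A : Set G))) ⟨n, hn⟩⟩

/-- `N(A)` has no fixed involution in `A`. -/
theorem no_fixed {a : G} (ha : a ∈ A)
    (hfix : ∀ n ∈ normalizer (A : Set G), n * a * n⁻¹ = a) : a = 1 := by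
  haveI := h.cfg.simple
  set N := normalizer ((S : Subgroup G) : Set G) with hN
  have hperf : commutator G = ⊤ := by
    refine ((commutator G).normal_of_characteristic.eq_bot_or_eq_top).resolve_left fun e => ?_
    exact h.cfg.nonab ⟨⟨fun x y => commutatorElement_eq_one_iff_mul_comm.1
      (mem_bot.1 (e ▸ commutator_mem_commutator (mem_top x) (mem_top y)))⟩⟩
  have h0 := S0074.result S (h.cfg.absyl S)
  rw [hperf, top_inf_eq] at h0
  have haN : a ∈ ⁅N, N⁆ := (h0 ▸ h.le_S ha : a ∈ ⁅N, N⁆ ⊓ (S : Subgroup G)).1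
  have hSN : (S : Subgroup G) ≤ N := le_normalizer
  set P : Subgroup N := (S : Subgroup G).subgroupOf N with hP
  haveI : IsMulCommutative P := ⟨⟨fun x y =>
    Subtype.ext (Subtype.ext (h.comm x.2 y.2).eq)⟩⟩
  letI : CommGroup P := { (inferInstance : Group P) with mul_comm := IsMulCommutative.is_comm.comm }
  set f : N →* P := MonoidHom.transfer (MonoidHom.id P)
  set g : N := ⟨a, hSN (h.le_S ha)⟩
  have hcen : ∀ (k : ℕ) (x : N), x⁻¹ * g ^ k * x = g ^ k := by
    intro k x
    have hc : Commute (x : G) a := (mul_inv_eq_iff_eq_mul.1 (hfix x (h.normalizer_le x.2)))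
    refine Subtype.ext ?_
    push_cast
    rw [mul_assoc, ← (hc.pow_right k).eq, inv_mul_cancel_left]
  have hval := MonoidHom.transfer_eq_pow (ϕ := MonoidHom.id P) g fun k x _ => hcen k x
  have hker : g ∈ f.ker := by
    have hle : commutator N ≤ f.ker := by
      rw [commutator_def, commutator_le]
      intro x _ y _
      rw [MonoidHom.mem_ker, map_commutatorElement, commutatorElement_eq_one_iff_mul_comm]
      exact mul_comm _ _
    refine hle ?_
    rw [← map_subtype_commutator] at haN
    obtain ⟨g', hg', e⟩ := haN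
    rwa [show g = g' from Subtype.ext e.symm]
  rw [MonoidHom.mem_ker] at hker
  have he : a ^ P.index = 1 := by
    have := congrArg (fun q : P => ((q : N) : G)) (hval.symm.trans hker)
    simpa using this
  have hodd : Odd P.index := Odd.of_dvd_nat (Nat.odd_iff.2 (Nat.two_dvd_ne_zero.1 S.not_dvd_index))
    (relIndex_dvd_index_of_le hSN)
  exact orderOf_eq_one_iff.1 (Nat.eq_one_of_dvd_coprimes (Nat.coprime_two_left.2 hodd)
    (orderOf_dvd_of_pow_eq_one (by rw [pow_two, h.sq ha])) (orderOf_dvd_of_pow_eq_one he))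

theorem S_ne_bot : (S : Subgroup G) ≠ ⊥ := fun e => by
  have := (card_le_of_le h.le_S).trans_eq (card_eq_one.2 e ▸ rfl : Nat.card (S : Subgroup G) = 1)
  have := h.large
  omega

/-- A subgroup containing `N(A)` and every `C(a)` is everything. -/
theorem eq_top {M : Subgroup G} (hN : normalizer (A : Set G) ≤ M)
    (hC : ∀ a ∈ A, a ≠ 1 → centralizer ({a} : Set G) ≤ M) : M = ⊤ :=
  by_contra fun hM => h.noSE M (H70.Balanced.isStronglyEmbedded_of_centralizer_le hM S h.S_ne_bot
    (h.normalizer_le.trans hN) fun x hx hx2 => hC x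
      ((h.mem_iff x).2 ⟨hx, by rw [← pow_two, ← hx2, pow_orderOf_eq_one]⟩)
      fun e => by rw [e, orderOf_one] at hx2; omega)

theorem exists_ne_one : ∃ a ∈ A, a ≠ 1 := by
  by_contra! hc
  have := h.large
  rw [show A = ⊥ from (eq_bot_iff_forall A).2 hc, Subgroup.card_bot] at this
  omega

end Ctx

end Cfsg.Agent.H88.Walter
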