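import Cfsg.Agent.H88.Walter.Ctx
import Cfsg.Agent.H88.Walter.Data
import Cfsg.Agent.Components.PLocal

/-!
# The components of `C(b)` modulo the core, seen in `G`

For `b ∈ A` and a component `K` of `C(b)/O(C(b))`: `vp A b K = A ∩ (preimage of K)`,
`qp A b K` = the elements of `A` centralising `K` modulo the core; `A = vp × qp`.
-/

set_option autoImplicit false
set_option linter.unusedSectionVars false
set_option linter.style.haveILetI false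

namespace Cfsg.Agent.H88.Walter

open Subgroup Cfsg.Agent
open Cfsg.Agent.H21.Walter (coreProj coreImage coreProj_eq_one_iff)
open scoped commutatorElement

universe u

variable {G : Type u} [Group G] [Finite G]

local instance fact_two' : Fact (Nat.Prime 2) := ⟨Nat.prime_two⟩

/-- `C(b)` modulo its core. -/
abbrev Bb (b : G) : Type u :=
  ↥(centralizer ({b} : Set G)) ⧸ Cfsg.pPrimeCore 2 ↥(centralizer ({b} : Set G))

/-- The preimage of `K` in `C(b)`. -/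
def pre (b : G) (K : Subgroup (Bb b)) : Subgroup G :=
  (K.comap (coreProj b)).map (centralizer ({b} : Set G)).subtype

/-- The elements of `C(b)` centralising `K` modulo the core. -/
def cen (b : G) (K : Subgroup (Bb b)) : Subgroup G :=
  pre b (centralizer (K : Set (Bb b)))

/-- The part of `A` inside `K`. -/
def vp (A : Subgroup G) (b : G) (K : Subgroup (Bb b)) : Subgroup G :=
  A ⊓ pre b K

/-- The part of `A` centralising `K`. -/
def qp (A : Subgroup G) (b : G) (K : Subgroup (Bb b)) : Subgroup G :=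
  A ⊓ cen b K

theorem mem_pre {b x : G} {K : Subgroup (Bb b)} :
    x ∈ pre b K ↔ ∃ hx : x ∈ centralizer ({b} : Set G), coreProj b ⟨x, hx⟩ ∈ K :=
  ⟨fun ⟨y, hy, e⟩ => e ▸ ⟨y.2, hy⟩, fun ⟨hx, h⟩ => ⟨⟨x, hx⟩, h, rfl⟩⟩

theorem pre_le (b : G) (K : Subgroup (Bb b)) : pre b K ≤ centralizer {b} :=
  map_subtype_le _

theorem pre_mono {b : G} {K L : Subgroup (Bb b)} (h : K ≤ L) : pre b K ≤ pre b L :=
  map_mono (comap_mono h)

theorem coreProj_surjective (b : G) : Function.Surjective (coreProj b) :=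
  QuotientGroup.mk'_surjective _

theorem proj_eq_one {b : G} {x : G} (hx : x ∈ centralizer ({b} : Set G)) (h : x ∈ core b) :
    coreProj b ⟨x, hx⟩ = 1 :=
  coreProj_eq_one_iff.2 h

theorem core_le_pre (b : G) (K : Subgroup (Bb b)) : core b ≤ pre b K := fun x hx =>
  mem_pre.2 ⟨core_le b hx, by rw [proj_eq_one (core_le b hx) hx]; exact one_mem _⟩

theorem coreImage_mem {b : G} {H : Subgroup G} {x : G} (hx : x ∈ centralizer ({b} : Set G))
    (h : x ∈ H) : coreProj b ⟨x, hx⟩ ∈ coreImage b H :=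
  mem_map_of_mem _ (show (⟨x, hx⟩ : ↥(centralizer ({b} : Set G))) ∈ H.subgroupOf _ from h)

namespace Ctx

variable {S : Sylow 2 G} {A : Subgroup G} (h : Ctx S A) {b : G}
include h

/-- The image of `S` in `C(b)` modulo the core. -/
noncomputable def sylowBar (hb : b ∈ A) : Sylow 2 (Bb b) :=
  (S.subtype (h.S_le_cent hb)).mapSurjective (coreProj_surjective b)

theorem mem_sylowBar (hb : b ∈ A) {y : Bb b} :
    y ∈ (h.sylowBar hb : Subgroup (Bb b)) ↔ ∃ (s : G) (hs : s ∈ centralizer ({b} : Set G)),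
      s ∈ (S : Subgroup G) ∧ coreProj b ⟨s, hs⟩ = y := by
  show y ∈ ((S : Subgroup G).subgroupOf _).map (coreProj b) ↔ _
  exact ⟨fun ⟨s, hs, e⟩ => ⟨s, s.2, hs, e⟩, fun ⟨s, hs, hsS, e⟩ => ⟨⟨s, hs⟩, hsS, e⟩⟩

theorem absyl_Bb (_hb : b ∈ A) : H10.Walter.AbSyl (Bb b) := h.cfg.absyl_bar _

theorem oddCore_Bb (_hb : b ∈ A) : Cfsg.oddCore (Bb b) = ⊥ := H10.Walter.oddCore_bar _

theorem proj_injOn {x y : G} (hxA : x ∈ A) (hyA : y ∈ A) {hx : x ∈ centralizer ({b} : Set G)}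
    {hy : y ∈ centralizer ({b} : Set G)} (e : coreProj b ⟨x, hx⟩ = coreProj b ⟨y, hy⟩) : x = y := by
  have h1 : coreProj b (⟨x, hx⟩⁻¹ * ⟨y, hy⟩) = 1 := by rw [map_mul, map_inv, e, inv_mul_cancel]
  exact congrArg Subtype.val (inv_mul_eq_one.1 (H21.Walter.coreProj_injOn h.elem
    (show ((⟨x, hx⟩⁻¹ * ⟨y, hy⟩ : ↥(centralizer ({b} : Set G))) : G) ∈ A from
      mul_mem (inv_mem hxA) hyA) h1))

variable (hd : ShapeData.{u})
include hd

theorem goodPiece (hb : b ∈ A) (hb1 : b ≠ 1) {K : Subgroup (Bb b)} (hK : Cfsg.IsComponent K)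
    (P : Sylow 2 K) : GoodPiece (P : Subgroup K) :=
  hd K (h.cfg.component_simple_bar _ hK).1 (h.cfg.component_simple_bar _ hK).2
    ((h.absyl_Bb hb).subgroup K) (h.cfg.component_shape_bar (h.cfg.centralizer_ne_top hb1) hK) P

theorem pieceData (hb : b ∈ A) (hb1 : b ≠ 1) (L : Subgroup (Bb b)) (hL : Cfsg.IsComponent L)
    (P : Sylow 2 L) : H21.Walter.PieceData L (P : Subgroup L) :=
  (h.goodPiece hd hb hb1 hL P).pieceData

/-- The pieces of `C(b)` modulo the core. -/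
theorem localPieces (hb : b ∈ A) (hb1 : b ≠ 1) :
    H21.Walter.LocalPieces (coreImage b A) (Cfsg.pCore 2 (Bb b))
      (fun L : {L : Subgroup (Bb b) // Cfsg.IsComponent L} => (L : Subgroup (Bb b)))
      (fun L => (h.sylowBar hb : Subgroup (Bb b)) ⊓ L) :=
  H21.Walter.localPieces_of_absyl (h.absyl_Bb hb) (h.oddCore_Bb hb) (h.pieceData hd hb hb1)
    (h.sylowBar hb) (map_mono (comap_mono h.le_S))

theorem exists_piece (hb : b ∈ A) (hb1 : b ≠ 1) {K : Subgroup (Bb b)} (hK : Cfsg.IsComponent K) :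
    ∃ P : Sylow 2 K, GoodPiece (P : Subgroup K) ∧
      (P : Subgroup K) = ((h.sylowBar hb : Subgroup (Bb b)) ⊓ K).subgroupOf K := by
  obtain ⟨P, hP⟩ := Cfsg.Agent.S0542.result 2 K hK.1 (h.sylowBar hb)
  exact ⟨P, h.goodPiece hd hb hb1 hK P, by rw [hP, inf_subgroupOf_right]⟩

/-- The piece of `K` is the image of `vp`. -/
theorem exists_vp_of_mem (hb : b ∈ A) (hb1 : b ≠ 1) {K : Subgroup (Bb b)} (hK : Cfsg.IsComponent K)
    {y : Bb b} (hy : y ∈ (h.sylowBar hb : Subgroup (Bb b)) ⊓ K) :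
    ∃ (v : G) (hv : v ∈ centralizer ({b} : Set G)), v ∈ vp A b K ∧ coreProj b ⟨v, hv⟩ = y := by
  obtain ⟨P, hg, hP⟩ := h.exists_piece hd hb hb1 hK
  have hy2 : y * y = 1 :=
    congrArg Subtype.val (hg.sq ⟨y, hy.2⟩ (by rw [hP]; exact hy))
  obtain ⟨s, hs, hsS, e⟩ := (h.mem_sylowBar hb).1 hy.1
  have hmem : s * s ∈ core b := (coreProj_eq_one_iff (x := ⟨s, hs⟩ * ⟨s, hs⟩)).1
    (by rw [map_mul, e, hy2])
  obtain ⟨k, hk⟩ := S.isPGroup' ⟨s * s, mul_mem hsS hsS⟩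
  have h2 : s * s = 1 := orderOf_eq_one_iff.1 (Nat.eq_one_of_dvd_coprimes
    (Nat.Coprime.pow_left k (Nat.coprime_two_left.2 (core_odd b)))
    (orderOf_dvd_of_pow_eq_one (show (s * s) ^ 2 ^ k = 1 by simpa using congrArg Subtype.val hk))
    (orderOf_dvd_natCard _ hmem))
  exact ⟨s, hs, ⟨(h.mem_iff s).2 ⟨hsS, h2⟩, mem_pre.2 ⟨hs, e ▸ hy.2⟩⟩, e⟩

theorem image_vp_mem (hb : b ∈ A) {K : Subgroup (Bb b)} {v : G} (hv : v ∈ vp A b K) :
    coreProj b ⟨v, h.le_cent hb hv.1⟩ ∈ (h.sylowBar hb : Subgroup (Bb b)) ⊓ K := by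
  obtain ⟨_, hm⟩ := mem_pre.1 hv.2
  exact ⟨(h.mem_sylowBar hb).2 ⟨v, _, h.le_S hv.1, rfl⟩, hm⟩

/-- `A = vp × qp`. -/
theorem exists_decomp (hb : b ∈ A) (hb1 : b ≠ 1) {K : Subgroup (Bb b)} (hK : Cfsg.IsComponent K)
    {a : G} (ha : a ∈ A) : ∃ v ∈ vp A b K, ∃ q ∈ qp A b K, v * q = a := by
  obtain ⟨g, ⟨hgT, hgK⟩, hc⟩ := H10.Walter.exists_inner (h.absyl_Bb hb) (h.oddCore_Bb hb) hK
    (h.sylowBar hb) ((h.mem_sylowBar hb).2 ⟨a, h.le_cent hb ha, h.le_S ha, rfl⟩)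
  obtain ⟨v, hv, hvp, e⟩ := h.exists_vp_of_mem hd hb hb1 hK ⟨hgT, hgK⟩
  refine ⟨v, hvp, v⁻¹ * a, ⟨Subgroup.mul_mem _ (Subgroup.inv_mem _ hvp.1) ha, mem_pre.2
    ⟨mul_mem (inv_mem hv) (h.le_cent hb ha), ?_⟩⟩, mul_inv_cancel_left v a⟩
  have e2 : v⁻¹ * a = a * v⁻¹ :=
    (h.comm (h.le_S ha) (inv_mem (h.le_S hvp.1))).eq.symm
  rw [show (⟨v⁻¹ * a, mul_mem (inv_mem hv) (h.le_cent hb ha)⟩ : ↥(centralizer ({b} : Set G))) =
    ⟨a, h.le_cent hb ha⟩ * ⟨v, hv⟩⁻¹ from Subtype.ext e2, map_mul, map_inv, e]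
  exact hc

theorem center_eq_bot (hb : b ∈ A) {K : Subgroup (Bb b)} (hK : Cfsg.IsComponent K) :
    center K = ⊥ :=
  ((h.cfg.component_simple_bar _ hK).1.eq_bot_or_eq_top_of_normal _ inferInstance).resolve_right
    (Components.qs_center_ne_top hK.2)

theorem vp_inf_qp (hb : b ∈ A) {K : Subgroup (Bb b)} (hK : Cfsg.IsComponent K) :
    vp A b K ⊓ qp A b K = ⊥ := by
  refine (eq_bot_iff_forall _).2 fun x hx => ?_
  obtain ⟨hx1, hk⟩ := mem_pre.1 hx.1.2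
  obtain ⟨_, hc⟩ := mem_pre.1 hx.2.2
  have hz : (⟨_, hk⟩ : K) ∈ center K := mem_center_iff.2 fun y =>
    Subtype.ext (mem_centralizer_iff.1 hc y y.2)
  rw [h.center_eq_bot hd hb hK, mem_bot] at hz
  refine h.proj_injOn (b := b) (hx := hx1) (hy := one_mem _) hx.1.1 (one_mem A) ?_
  rw [show (⟨1, one_mem _⟩ : ↥(centralizer ({b} : Set G))) = 1 from rfl, map_one]
  exact congrArg Subtype.val hz

theorem self_mem_qp (hb : b ∈ A) (hb1 : b ≠ 1) {K : Subgroup (Bb b)} (hK : Cfsg.IsComponent K) :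
    b ∈ qp A b K := by
  refine ⟨hb, mem_pre.2 ⟨h.le_cent hb hb, mem_centralizer_iff.2 fun y _ => ?_⟩⟩
  obtain ⟨z, rfl⟩ := coreProj_surjective b y
  rw [← map_mul, ← map_mul]
  exact congrArg _ (Subtype.ext (mem_centralizer_singleton_iff.1 z.2))

theorem card_vp (hb : b ∈ A) (hb1 : b ≠ 1) {K : Subgroup (Bb b)} (hK : Cfsg.IsComponent K)
    {P : Sylow 2 K} (hP : (P : Subgroup K) = ((h.sylowBar hb : Subgroup (Bb b)) ⊓ K).subgroupOf K) :
    Nat.card (vp A b K) = Nat.card P := by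
  rw [show Nat.card P = Nat.card ↥(P : Subgroup K) from rfl, hP,
    Nat.card_congr (subgroupOfEquivOfLe inf_le_right).toEquiv]
  refine Nat.card_congr (Equiv.ofBijective
    (fun v => ⟨coreProj b ⟨v.1, h.le_cent hb v.2.1⟩, h.image_vp_mem hd hb v.2⟩) ⟨fun v w e => ?_, ?_⟩)
  · exact Subtype.ext (h.proj_injOn v.2.1 w.2.1 (congrArg Subtype.val e))
  · rintro ⟨y, hy⟩
    obtain ⟨v, hv, hvp, e⟩ := h.exists_vp_of_mem hd hb hb1 hK hy
    exact ⟨⟨v, hvp⟩, Subtype.ext e⟩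

theorem four_le_vp (hb : b ∈ A) (hb1 : b ≠ 1) {K : Subgroup (Bb b)} (hK : Cfsg.IsComponent K) :
    4 ≤ Nat.card (vp A b K) := by
  obtain ⟨P, hg, hP⟩ := h.exists_piece hd hb hb1 hK
  rw [h.card_vp hd hb hb1 hK hP]
  exact hg.four

theorem card_mul (hb : b ∈ A) (hb1 : b ≠ 1) {K : Subgroup (Bb b)} (hK : Cfsg.IsComponent K) :
    Nat.card (vp A b K) * Nat.card (qp A b K) = Nat.card A := by
  rw [← Nat.card_prod]
  refine Nat.card_congr (Equiv.ofBijective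
    (fun p => ⟨p.1.1 * p.2.1, mul_mem p.1.2.1 p.2.2.1⟩) ⟨fun p p' e => ?_, ?_⟩)
  · have e' : (p'.1 : G)⁻¹ * p.1 = p'.2 * (p.2 : G)⁻¹ := by
      have : (p.1 : G) * p.2 = p'.1 * p'.2 := congrArg Subtype.val e
      rw [eq_mul_inv_iff_mul_eq, mul_assoc, this, inv_mul_cancel_left]
    have h1 : (p'.1 : G)⁻¹ * p.1 ∈ vp A b K ⊓ qp A b K :=
      ⟨Subgroup.mul_mem _ (Subgroup.inv_mem _ p'.1.2) p.1.2, e' ▸ Subgroup.mul_mem _ p'.2.2 (Subgroup.inv_mem _ p.2.2)⟩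
    rw [h.vp_inf_qp hd hb hK, mem_bot] at h1
    rw [h1, eq_comm, mul_inv_eq_one] at e'
    exact Prod.ext (Subtype.ext (inv_mul_eq_one.1 h1).symm) (Subtype.ext e'.symm)
  · rintro ⟨a, ha⟩
    obtain ⟨v, hv, q, hq, e⟩ := h.exists_decomp hd hb hb1 hK ha
    exact ⟨(⟨v, hv⟩, ⟨q, hq⟩), Subtype.ext e⟩

/-- Different components: the piece of one centralises the other. -/
theorem vp_le_qp (hb : b ∈ A) {K K' : Subgroup (Bb b)} (hK : Cfsg.IsComponent K)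
    (hK' : Cfsg.IsComponent K') (hne : K' ≠ K) : vp A b K' ≤ qp A b K :=
  inf_le_inf le_rfl (pre_mono (commutator_eq_bot_iff_le_centralizer.1
    (Components.components_commute hK' hK hne)))

/-- An element of `N(A)` over `K` centralises `qp` and has powers transitive on `vp`. -/
theorem exists_cyc (hb : b ∈ A) (hb1 : b ≠ 1) {K : Subgroup (Bb b)} (hK : Cfsg.IsComponent K) :
    ∃ n ∈ normalizer (A : Set G) ⊓ pre b K,
      (∀ q ∈ qp A b K, n * q * n⁻¹ = q) ∧ (∀ x ∈ vp A b K, n * x * n⁻¹ ∈ vp A b K) ∧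
        ∀ v ∈ vp A b K, ∀ w ∈ vp A b K, v ≠ 1 → w ≠ 1 → ∃ i : ℕ, n ^ i * v * (n ^ i)⁻¹ = w := by
  obtain ⟨P, hg, hP⟩ := h.exists_piece hd hb hb1 hK
  have hmem : ∀ {x : G} (hx : x ∈ vp A b K),
      (⟨_, (h.image_vp_mem hd hb hx).2⟩ : K) ∈ (P : Subgroup K) := fun hx => by
    rw [hP]; exact h.image_vp_mem hd hb hx
  have hne : ∀ {x : G} (hx : x ∈ vp A b K), x ≠ 1 →
      (⟨_, (h.image_vp_mem hd hb hx).2⟩ : K) ≠ 1 := fun hx hx1 e =>
    hx1 (h.proj_injOn (hy := one_mem _) hx.1 (one_mem A)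
      ((congrArg Subtype.val e).trans (map_one (coreProj b)).symm))
  obtain ⟨k, hk, hkt⟩ := hg.cyc
  -- `k` normalises the image of `A`
  set A' := A.subgroupOf (centralizer ({b} : Set G)) with hA'
  have hA'p : IsPGroup 2 ↥A' := h.isPGroup.comap_subtype
  have hkc : ∀ q ∈ qp A b K, ∀ hq : q ∈ centralizer ({b} : Set G),
      (k : Bb b) * coreProj b ⟨q, hq⟩ * (k : Bb b)⁻¹ = coreProj b ⟨q, hq⟩ := fun q hq hqb => by
    obtain ⟨_, hc⟩ := mem_pre.1 hq.2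
    rw [mem_centralizer_iff.1 hc k k.2, mul_inv_cancel_right]
  have hkN : (k : Bb b) ∈ normalizer ((A'.map (coreProj b) : Subgroup (Bb b)) : Set (Bb b)) := by
    refine Coprime.mem_normalizer_of_map_conj (eq_of_le_of_card_ge ?_ (by rw [Coprime.card_map_conj]))
    rintro _ ⟨_, ⟨⟨a, hab⟩, ha, rfl⟩, rfl⟩
    obtain ⟨v', hv', q, hq, e⟩ := h.exists_decomp hd hb hb1 hK (show a ∈ A from ha)
    have hv'm := (mem_normalizer_iff.1 hk _).1 (hmem hv')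
    rw [hP] at hv'm
    obtain ⟨y, hy, hyp, ey⟩ := h.exists_vp_of_mem hd hb hb1 hK
      (y := (k : Bb b) * coreProj b ⟨v', h.le_cent hb hv'.1⟩ * (k : Bb b)⁻¹) hv'm
    refine ⟨⟨y * q, mul_mem hy (h.le_cent hb hq.1)⟩, mul_mem hyp.1 hq.1, ?_⟩
    show coreProj b (⟨y, hy⟩ * ⟨q, h.le_cent hb hq.1⟩) = _
    rw [map_mul, ey, ← hkc q hq (h.le_cent hb hq.1)]
    show _ = (k : Bb b) * coreProj b ⟨a, hab⟩ * (k : Bb b)⁻¹
    rw [show (⟨a, hab⟩ : ↥(centralizer ({b} : Set G))) =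
      ⟨v', h.le_cent hb hv'.1⟩ * ⟨q, h.le_cent hb hq.1⟩ from Subtype.ext e.symm, map_mul]
    group
  rw [coreProj, ← Components.map_normalizer_of_coprime _
    Cores.coprime_card_pPrimeCore hA'p] at hkN
  obtain ⟨g, hgN, hgk⟩ := hkN
  have hgA : (g : G) ∈ normalizer (A : Set G) := by
    refine Coprime.mem_normalizer_of_map_conj (eq_of_le_of_card_ge ?_ (by rw [Coprime.card_map_conj]))
    rintro _ ⟨a, ha, rfl⟩
    exact (mem_normalizer_iff.1 hgN ⟨a, h.le_cent hb ha⟩).1 ha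
  have hgconj : ∀ {x : G} (hx : x ∈ A) (hc : g * x * (g : G)⁻¹ ∈ centralizer ({b} : Set G)),
      coreProj b ⟨g * x * (g : G)⁻¹, hc⟩ =
        (k : Bb b) * coreProj b ⟨x, h.le_cent hb hx⟩ * (k : Bb b)⁻¹ := fun {x} hx hc => by
    rw [show (⟨g * x * (g : G)⁻¹, hc⟩ : ↥(centralizer ({b} : Set G))) =
      g * ⟨x, h.le_cent hb hx⟩ * g⁻¹ from rfl, map_mul, map_mul, map_inv, show coreProj b g = _ from hgk]
  have hgA' : ∀ {x : G}, x ∈ A → (g : G) * x * (g : G)⁻¹ ∈ A := fun hx =>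
    (mem_normalizer_iff.1 hgA _).1 hx
  have hgp : (g : G) ∈ pre b K := mem_pre.2 ⟨g.2, show coreProj b g ∈ K from hgk.symm ▸ k.2⟩
  refine ⟨g, ⟨hgA, hgp⟩, fun q hq => ?_, fun x hx => ⟨hgA' hx.1, ?_⟩, ?_⟩
  · refine h.proj_injOn (hgA' hq.1) hq.1 (hx := h.le_cent hb (hgA' hq.1)) (hy := h.le_cent hb hq.1) ?_
    rw [hgconj hq.1, hkc q hq]
  · exact Subgroup.mul_mem _ (Subgroup.mul_mem _ hgp hx.2) (Subgroup.inv_mem _ hgp)
  intro v hv w hw hv1 hw1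
  obtain ⟨i, hi⟩ := hkt _ (hmem hv) _ (hmem hw) (hne hv hv1) (hne hw hw1)
  have hiA : (g : G) ^ i * v * ((g : G) ^ i)⁻¹ ∈ A :=
    (mem_normalizer_iff.1 (pow_mem hgA i) _).1 hv.1
  refine ⟨i, h.proj_injOn hiA hw.1 (hx := h.le_cent hb hiA) (hy := h.le_cent hb hw.1) ?_⟩
  rw [show (⟨(g : G) ^ i * v * ((g : G) ^ i)⁻¹, h.le_cent hb hiA⟩ : ↥(centralizer ({b} : Set G))) =
    g ^ i * ⟨v, h.le_cent hb hv.1⟩ * (g ^ i)⁻¹ from Subtype.ext (by simp), map_mul, map_mul, map_inv,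
    map_pow, show coreProj b g = _ from hgk]
  exact congrArg Subtype.val hi

/-- `N(A) ∩ C(b)` acts transitively on `vp` while centralising `qp`. -/
theorem exists_trans (hb : b ∈ A) (hb1 : b ≠ 1) {K : Subgroup (Bb b)} (hK : Cfsg.IsComponent K)
    {v w : G} (hv : v ∈ vp A b K) (hw : w ∈ vp A b K) (hv1 : v ≠ 1) (hw1 : w ≠ 1) :
    ∃ n ∈ normalizer (A : Set G) ⊓ pre b K,
      (∀ q ∈ qp A b K, n * q * n⁻¹ = q) ∧ (∀ x ∈ vp A b K, n * x * n⁻¹ ∈ vp A b K) ∧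
        n * v * n⁻¹ = w := by
  obtain ⟨n, hn, hq, hx, ht⟩ := h.exists_cyc hd hb hb1 hK
  obtain ⟨i, hi⟩ := ht v hv w hw hv1 hw1
  have hpow : ∀ (P : G → Prop), (∀ y, P y → P (n * y * n⁻¹)) →
      ∀ y, P y → P (n ^ i * y * (n ^ i)⁻¹) := by
    intro P hP y hy
    clear hi
    induction i with
    | zero => simpa using hy
    | succ i ih =>
      rw [show n ^ (i + 1) * y * (n ^ (i + 1))⁻¹ = n * (n ^ i * y * (n ^ i)⁻¹) * n⁻¹ by
        rw [pow_succ']; group]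
      exact hP _ ih
  exact ⟨n ^ i, pow_mem hn i,
    fun q hqm => hpow (fun y => y = q) (fun y e => by rw [e, hq q hqm]) q rfl,
    fun x hxm => hpow (fun y => y ∈ vp A b K) (fun y hy => hx y hy) x hxm, hi⟩

end Ctx

end Cfsg.Agent.H88.Walter
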