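import Cfsg.Agent.H88.Walter.Comp

/-!
# Odd subgroups of `C(b)` normalised by `S` on the components
-/

set_option autoImplicit false
set_option linter.unusedSectionVars false
set_option linter.unusedVariables false
set_option linter.style.haveILetI false

namespace Cfsg.Agent.H88.Walter

open Subgroup Cfsg.Agent
open Cfsg.Agent.H21.Walter (coreProj coreImage coreProj_eq_one_iff)
open scoped commutatorElement

universe u

variable {G : Type u} [Group G] [Finite G]

theorem odd_of_mem {W : Subgroup G} (hW : Odd (Nat.card W)) {x : G} (hx : x ∈ W) : Odd (orderOf x) :=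
  hW.of_dvd_nat (orderOf_dvd_natCard W hx)

theorem odd_of_le {W V : Subgroup G} (hW : Odd (Nat.card W)) (h : V ≤ W) : Odd (Nat.card V) :=
  hW.of_dvd_nat (card_dvd_of_le h)

namespace Ctx

variable {S : Sylow 2 G} {A : Subgroup G} (h : Ctx S A) (hd : ShapeData.{u}) {b : G}
include h hd

/-- An element of an odd `S`-invariant subgroup of `C(b)` fixes every component. -/
theorem odd_fixes (hb : b ∈ A) (hb1 : b ≠ 1) {W : Subgroup G} (hW : Odd (Nat.card W))
    (hSW : (S : Subgroup G) ≤ normalizer (W : Set G)) {K : Subgroup (Bb b)}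
    (hK : Cfsg.IsComponent K) {w : G} (hw : w ∈ W) (hwb : w ∈ centralizer ({b} : Set G)) :
    coreProj b ⟨w, hwb⟩ ∈ normalizer (K : Set (Bb b)) := by
  refine (h.localPieces hd hb hb1).fixes_piece (W := coreImage b W)
    (H21.Walter.card_coreImage_odd b fun he => Nat.not_even_iff_odd.2 hW (even_iff_two_dvd.2 he))
    ?_ (coreImage_mem hwb hw) ⟨K, hK⟩
  refine (sup_le (Cores.pCore_le_sylow _) (iSup_le fun _ => inf_le_left)).trans ?_
  intro y hy
  obtain ⟨s, hs, hsS, rfl⟩ := (h.mem_sylowBar hb).1 hy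
  refine le_normalizer_map _ (mem_map_of_mem _ (show (⟨s, hs⟩ : ↥(centralizer ({b} : Set G))) ∈
    normalizer ((W.subgroupOf (centralizer ({b} : Set G)) : Subgroup _) : Set _) from ?_))
  exact mem_normalizer_iff.2 fun z => mem_normalizer_iff.1 (hSW hsS) z

theorem coreImage_odd {W : Subgroup G} (hW : Odd (Nat.card W)) : Odd (Nat.card (coreImage b W)) :=
  H21.Walter.card_coreImage_odd b fun he => Nat.not_even_iff_odd.2 hW (even_iff_two_dvd.2 he)

theorem base_le (hb : b ∈ A) :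
    Cfsg.pCore 2 (Bb b) ⊔ ⨆ L : {L : Subgroup (Bb b) // Cfsg.IsComponent L},
      (h.sylowBar hb : Subgroup (Bb b)) ⊓ L ≤ (h.sylowBar hb : Subgroup (Bb b)) :=
  sup_le (Cores.pCore_le_sylow _) (iSup_le fun _ => inf_le_left)

theorem sylowBar_le_normalizer (hb : b ∈ A) {W : Subgroup G}
    (hSW : (S : Subgroup G) ≤ normalizer (W : Set G)) :
    (h.sylowBar hb : Subgroup (Bb b)) ≤ normalizer (coreImage b W : Set (Bb b)) := by
  intro y hy
  obtain ⟨s, hs, hsS, rfl⟩ := (h.mem_sylowBar hb).1 hy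
  exact le_normalizer_map _ (mem_map_of_mem _ (show (⟨s, hs⟩ : ↥(centralizer ({b} : Set G))) ∈
    normalizer ((W.subgroupOf (centralizer ({b} : Set G)) : Subgroup _) : Set _) from
      mem_normalizer_iff.2 fun z => mem_normalizer_iff.1 (hSW hsS) z))

/-- An odd `S`-invariant subgroup centralising every component modulo the core lies in the core. -/
theorem le_core_of_cent (hb : b ∈ A) (hb1 : b ≠ 1) {W : Subgroup G} (hW : Odd (Nat.card W))
    (hSW : (S : Subgroup G) ≤ normalizer (W : Set G)) (hWb : W ≤ centralizer ({b} : Set G))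
    (hc : ∀ K : Subgroup (Bb b), Cfsg.IsComponent K → coreImage b W ≤ centralizer (K : Set (Bb b))) :
    W ≤ core b := by
  have P := h.localPieces hd hb hb1
  have hZ := P.le_cent_Z (h.coreImage_odd hd hW)
    ((h.base_le hd hb).trans (h.sylowBar_le_normalizer hd hb hSW))
  have hle : coreImage b W ≤ Cfsg.pCore 2 (Bb b) := by
    refine le_trans ?_ P.self
    rw [le_centralizer_iff]
    exact sup_le (le_centralizer_iff.1 hZ) (iSup_le fun L => le_centralizer_iff.1 (hc L.1 L.2))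
  intro w hw
  refine (coreProj_eq_one_iff (x := ⟨w, hWb hw⟩)).1 ?_
  have hm := coreImage_mem (hWb hw) hw
  obtain ⟨n, hn⟩ := Cores.pCore_isPGroup ⟨_, hle hm⟩
  exact orderOf_eq_one_iff.1 (Nat.eq_one_of_dvd_coprimes
    (Nat.Coprime.pow_left n (Nat.coprime_two_left.2 (h.coreImage_odd hd hW)))
    (orderOf_dvd_of_pow_eq_one (show coreProj b ⟨w, hWb hw⟩ ^ 2 ^ n = 1 by
      simpa [Subtype.ext_iff] using hn)) (orderOf_dvd_natCard _ hm))

theorem cent_bar_le (hb : b ∈ A) {a : G} (ha : a ∈ A) {W : Subgroup G}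
    (hWn : centralizer ({a} : Set G) ⊓ centralizer ({b} : Set G) ≤ normalizer (W : Set G)) :
    centralizer ({coreProj b ⟨a, h.le_cent hb ha⟩} : Set (Bb b)) ≤
      normalizer (coreImage b W : Set (Bb b)) := by
  refine le_trans ?_ (H21.Walter.centralizer_le_normalizer_coreImage (P := zpowers a)
    (h.isPGroup.to_le (zpowers_le.2 ha))
    ((inf_le_inf_right _ (centralizer_le (Set.singleton_subset_iff.2 (mem_zpowers a)))).trans hWn)
    (zpowers_le.2 (h.le_cent hb ha)))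
  intro g hg
  refine mem_centralizer_iff.2 ?_
  rintro _ ⟨⟨x, hxb⟩, hx, rfl⟩
  obtain ⟨n, rfl⟩ := mem_zpowers_iff.1 (show x ∈ zpowers a from hx)
  rw [show (⟨a ^ n, hxb⟩ : ↥(centralizer ({b} : Set G))) = ⟨a, h.le_cent hb ha⟩ ^ n from
    Subtype.ext (by simp), map_zpow]
  exact (Commute.zpow_left (Commute.symm (mem_centralizer_singleton_iff.1 hg :
    Commute g (coreProj b ⟨a, h.le_cent hb ha⟩))) n).eq

theorem mem_base (hb : b ∈ A) (hb1 : b ≠ 1) {a : G} (ha : a ∈ A) :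
    coreProj b ⟨a, h.le_cent hb ha⟩ ∈ Cfsg.pCore 2 (Bb b) ⊔
      ⨆ L : {L : Subgroup (Bb b) // Cfsg.IsComponent L}, (h.sylowBar hb : Subgroup (Bb b)) ⊓ L :=
  (h.localPieces hd hb hb1).a_le (coreImage_mem (h.le_cent hb ha) ha)

/-- An element of `A` centralising a component makes its invariant odd subgroups do so. -/
theorem le_cent_qp (hb : b ∈ A) (hb1 : b ≠ 1) {K : Subgroup (Bb b)} (hK : Cfsg.IsComponent K)
    {a : G} (ha : a ∈ qp A b K) {W : Subgroup G} (hW : Odd (Nat.card W))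
    (hWn : centralizer ({a} : Set G) ⊓ centralizer ({b} : Set G) ≤ normalizer (W : Set G)) :
    coreImage b W ≤ centralizer (K : Set (Bb b)) := by
  obtain ⟨hab, hc⟩ := mem_pre.1 ha.2
  exact (h.localPieces hd hb hb1).le_cent_of_trivial (h.coreImage_odd hd hW)
    (h.mem_base hd hb hb1 ha.1) (h.cent_bar_le hd hb ha.1 hWn) (i := ⟨K, hK⟩) hc

/-- At a balanced component every element of `A` is harmless. -/
theorem le_cent_bal (hb : b ∈ A) (hb1 : b ≠ 1) {K : Subgroup (Bb b)} (hK : Cfsg.IsComponent K)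
    (hbal : ∀ x ∈ ((h.sylowBar hb : Subgroup (Bb b)) ⊓ K).subgroupOf K, x ≠ 1 →
      H21.Walter.OddTrivialAt x) {a : G} (ha : a ∈ A) {W : Subgroup G} (hW : Odd (Nat.card W))
    (hWa : W ≤ centralizer ({a} : Set G))
    (hWn : centralizer ({a} : Set G) ⊓ centralizer ({b} : Set G) ≤ normalizer (W : Set G)) :
    coreImage b W ≤ centralizer (K : Set (Bb b)) := by
  refine (h.localPieces hd hb hb1).le_cent_of_balanced (h.coreImage_odd hd hW) ?_
    (h.mem_base hd hb hb1 ha) (h.cent_bar_le hd hb ha hWn) (i := ⟨K, hK⟩) hbal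
  rintro _ ⟨w, hw, rfl⟩
  refine mem_centralizer_singleton_iff.2 ?_
  rw [← map_mul, ← map_mul]
  exact congrArg _ (Subtype.ext (mem_centralizer_singleton_iff.1 (hWa hw)))

/-- An element of `A` moving `K` makes the odd invariant subgroups centralising `vp` trivial on
`K`. -/
theorem le_cent_fix (hb : b ∈ A) (hb1 : b ≠ 1) {K : Subgroup (Bb b)} (hK : Cfsg.IsComponent K)
    {a : G} (ha : a ∈ A) {W : Subgroup G} (hW : Odd (Nat.card W))
    (hWA : W ≤ centralizer (A : Set G))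
    (hWn : centralizer ({a} : Set G) ⊓ centralizer ({b} : Set G) ≤ normalizer (W : Set G)) :
    coreImage b W ≤ centralizer (K : Set (Bb b)) := by
  by_cases haq : a ∈ qp A b K
  · exact h.le_cent_qp hd hb hb1 hK haq hW hWn
  obtain ⟨v, hv, q, hq, e⟩ := h.exists_decomp hd hb hb1 hK ha
  have hv1 : v ≠ 1 := fun hh => haq (by rw [← e, hh, one_mul]; exact hq)
  obtain ⟨P, hg, hP⟩ := h.exists_piece hd hb hb1 hK
  have PP := h.localPieces hd hb hb1
  have hSn : (S : Subgroup G) ≤ normalizer (W : Set G) := fun s hs =>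
    hWn ⟨h.S_le_cent ha hs, h.S_le_cent hb hs⟩
  have hSW : coreImage b W ≤ normalizer (K : Set (Bb b)) := fun y hy =>
    PP.fixes_piece (h.coreImage_odd hd hW)
      ((h.base_le hd hb).trans (h.sylowBar_le_normalizer hd hb hSn)) hy ⟨K, hK⟩
  obtain ⟨hvb, hvK⟩ := mem_pre.1 hv.2
  obtain ⟨hqb, hqK⟩ := mem_pre.1 hq.2
  have hvm : (⟨coreProj b ⟨v, h.le_cent hb hv.1⟩, hvK⟩ : K) ∈ (P : Subgroup K) := by
    rw [hP]; exact h.image_vp_mem hd hb hv
  refine H21.Walter.LocalPieces.le_cent_of_act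
    (L := fun L : {L : Subgroup (Bb b) // Cfsg.IsComponent L} => (L : Subgroup (Bb b))) (i := ⟨K, hK⟩) hSW
    (hg.fix _ hvm (fun e' => hv1 (h.proj_injOn (hy := one_mem _) hv.1 (one_mem A)
      ((congrArg Subtype.val e').trans (map_one (coreProj b)).symm))) _ (PP.act_odd
      (h.coreImage_odd hd hW) ⟨K, hK⟩) ?_ ?_)
  · rintro _ ⟨⟨w, hwn⟩, hw, rfl⟩ p hp
    obtain ⟨⟨w', hw'b⟩, hw', rfl⟩ := hw
    obtain ⟨p', hp'b, hp', ep⟩ := h.exists_vp_of_mem hd hb hb1 hK
      (y := (p : Bb b)) (by rw [hP] at hp; exact hp)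
    refine Subtype.ext (show coreProj b ⟨w', hw'b⟩ * (p : Bb b) * (coreProj b ⟨w', hw'b⟩)⁻¹ = _ from ?_)
    rw [← ep, ← map_mul, show (⟨w', hw'b⟩ * ⟨p', hp'b⟩ : ↥(centralizer ({b} : Set G))) =
      ⟨p', hp'b⟩ * ⟨w', hw'b⟩ from Subtype.ext (mem_centralizer_iff.1 (hWA hw') p' hp'.1).symm,
      map_mul, mul_inv_cancel_right]
  · intro y hy
    have hyv : (y : Bb b) * coreProj b ⟨v, h.le_cent hb hv.1⟩ =
        coreProj b ⟨v, h.le_cent hb hv.1⟩ * y :=
      congrArg Subtype.val (mem_centralizer_singleton_iff.1 hy)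
    have hye : (y : Bb b) ∈ centralizer ({coreProj b ⟨a, h.le_cent hb ha⟩} : Set (Bb b)) := by
      refine mem_centralizer_singleton_iff.2 ?_
      rw [show (⟨a, h.le_cent hb ha⟩ : ↥(centralizer ({b} : Set G))) =
        ⟨v, h.le_cent hb hv.1⟩ * ⟨q, h.le_cent hb hq.1⟩ from Subtype.ext e.symm, map_mul,
        ← mul_assoc, hyv, mul_assoc, mem_centralizer_iff.1 hqK _ y.2, mul_assoc]
    have hyn : (y : Bb b) ∈ normalizer (K : Set (Bb b)) := le_normalizer y.2
    have hconj : MulAut.conj y = K.normalizerMonoidHom ⟨y, hyn⟩ :=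
      MulEquiv.ext fun l => Subtype.ext rfl
    refine Coprime.mem_normalizer_of_map_conj (eq_of_le_of_card_ge ?_
      (by rw [Coprime.card_map_conj]))
    rintro _ ⟨_, ⟨w, hw, rfl⟩, rfl⟩
    refine ⟨⟨y, hyn⟩ * w * ⟨y, hyn⟩⁻¹, Coprime.conj_mem (h.cent_bar_le hd hb ha hWn hye) hw, ?_⟩
    simp [map_mul, hconj]

/-- An element inverted by `s ∈ A` which fixes `vp` is trivial on the component. -/
theorem cent_of_inverted (hb : b ∈ A) (hb1 : b ≠ 1) {K : Subgroup (Bb b)} (hK : Cfsg.IsComponent K)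
    {x : G} (hx : x ∈ centralizer ({b} : Set G)) (hodd : Odd (orderOf x))
    (hxK : coreProj b ⟨x, hx⟩ ∈ normalizer (K : Set (Bb b)))
    (hfix : ∀ v ∈ vp A b K, ∃ hv : v ∈ centralizer ({b} : Set G),
      Commute (coreProj b ⟨x, hx⟩) (coreProj b ⟨v, hv⟩))
    {s : G} (hs : s ∈ A) (hinv : s * x * s⁻¹ = x⁻¹) :
    coreProj b ⟨x, hx⟩ ∈ centralizer (K : Set (Bb b)) := by
  obtain ⟨P, hg, hP⟩ := h.exists_piece hd hb hb1 hK
  obtain ⟨v, hv, q, hq, e⟩ := h.exists_decomp hd hb hb1 hK hs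
  obtain ⟨hvb, hvK⟩ := mem_pre.1 hv.2
  obtain ⟨hqb, hqK⟩ := mem_pre.1 hq.2
  have hvn := le_normalizer (H := K) hvK
  have hqn := centralizer_le_normalizer (K : Set (Bb b)) hqK
  set φ : MulAut K := K.normalizerMonoidHom ⟨_, hxK⟩ with hφ
  have hone : K.normalizerMonoidHom ⟨_, hqn⟩ = 1 := MulEquiv.ext fun l => Subtype.ext (by
    show _ * (l : Bb b) * _⁻¹ = (l : Bb b)
    rw [← mem_centralizer_iff.1 hqK l l.2, mul_inv_cancel_right])
  have hsn : coreProj b ⟨s, h.le_cent hb hs⟩ ∈ normalizer (K : Set (Bb b)) := by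
    rw [show (⟨s, h.le_cent hb hs⟩ : ↥(centralizer ({b} : Set G))) =
      ⟨v, h.le_cent hb hv.1⟩ * ⟨q, h.le_cent hb hq.1⟩ from Subtype.ext e.symm, map_mul]
    exact mul_mem hvn hqn
  have hsconj : K.normalizerMonoidHom ⟨_, hsn⟩ =
      MulAut.conj (⟨_, hvK⟩ : K) := by
    rw [show (⟨_, hsn⟩ : normalizer (K : Set (Bb b))) = ⟨_, hvn⟩ * ⟨_, hqn⟩ from Subtype.ext (by
      show coreProj b _ = coreProj b _ * coreProj b _
      rw [← map_mul]; exact congrArg _ (Subtype.ext e.symm)), map_mul, hone, mul_one]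
    exact MulEquiv.ext fun l => Subtype.ext rfl
  have hpf : Fixes φ (P : Subgroup K) := fun p hp => by
    obtain ⟨p', hp'b, hp', ep⟩ := h.exists_vp_of_mem hd hb hb1 hK (y := (p : Bb b))
      (by rw [hP] at hp; exact hp)
    obtain ⟨_, hc⟩ := hfix p' hp'
    refine Subtype.ext (show coreProj b ⟨x, hx⟩ * (p : Bb b) * (coreProj b ⟨x, hx⟩)⁻¹ = _ from ?_)
    rw [← ep, hc.eq, mul_inv_cancel_right]
  have hinv' : MulAut.conj (⟨_, hvK⟩ : K) * φ * (MulAut.conj (⟨_, hvK⟩ : K))⁻¹ = φ⁻¹ := by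
    rw [← hsconj, hφ, ← map_inv, ← map_mul, ← map_mul, ← map_inv]
    refine congrArg _ (Subtype.ext ?_)
    show coreProj b _ * coreProj b ⟨x, hx⟩ * (coreProj b _)⁻¹ = (coreProj b ⟨x, hx⟩)⁻¹
    rw [← map_mul, ← map_inv, ← map_mul, ← map_inv]
    exact congrArg _ (Subtype.ext hinv)
  have hφodd : Odd (orderOf φ) := by
    refine hodd.of_dvd_nat ((orderOf_map_dvd K.normalizerMonoidHom _).trans ?_)
    rw [← Subgroup.orderOf_coe]
    exact (orderOf_map_dvd (coreProj b) _).trans (by rw [← Subgroup.orderOf_coe])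
  have h1 : φ = 1 := eq_one_of_fixes_inverted hφodd hpf
    (u := ⟨_, hvK⟩) (by rw [hP]; exact h.image_vp_mem hd hb hv) hinv'
  refine mem_centralizer_iff.2 fun l hl => ?_
  have := congrArg Subtype.val (DFunLike.congr_fun h1 (⟨l, hl⟩ : K))
  exact (mul_inv_eq_iff_eq_mul.1 (show _ * l * _⁻¹ = l from this)).symm

end Ctx

end Cfsg.Agent.H88.Walter
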