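import Cfsg.Agent.H88.Walter.Algebra
import Cfsg.Agent.Components.Layer
import Cfsg.Agent.Components.CyclicSylow
import Cfsg.Agent.S0205

/-!
# Perfect parts
-/

set_option autoImplicit false
set_option linter.unusedSectionVars false
set_option linter.style.haveILetI false

namespace Cfsg.Agent.H88.Walter

open Subgroup Cfsg.Agent
open scoped commutatorElement

universe u

variable {G : Type u} [Group G]

/-- The largest perfect subgroup of `X`. -/
def perfPart (X : Subgroup G) : Subgroup G :=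
  sSup {L : Subgroup G | L ≤ X ∧ ⁅L, L⁆ = L}

theorem perfPart_le (X : Subgroup G) : perfPart X ≤ X :=
  sSup_le fun _ hL => hL.1

theorem le_perfPart {X L : Subgroup G} (hL : L ≤ X) (hp : ⁅L, L⁆ = L) : L ≤ perfPart X :=
  le_sSup ⟨hL, hp⟩

theorem perfPart_perfect (X : Subgroup G) : ⁅perfPart X, perfPart X⁆ = perfPart X :=
  le_antisymm (commutator_le_self _) (sSup_le fun L hL =>
    hL.2.ge.trans (commutator_mono (le_sSup hL) (le_sSup hL)))

theorem perfPart_map_conj_le {X : Subgroup G} {g : G} {Y : Subgroup G}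
    (hg : X.map (MulAut.conj g).toMonoidHom ≤ Y) :
    (perfPart X).map (MulAut.conj g).toMonoidHom ≤ perfPart Y :=
  le_perfPart ((map_mono (perfPart_le X)).trans hg) (by rw [← map_commutator, perfPart_perfect])

theorem normalizer_le_perfPart [Finite G] (X : Subgroup G) :
    normalizer (X : Set G) ≤ normalizer (perfPart X : Set G) := fun g hg =>
  Coprime.mem_normalizer_of_map_conj (eq_of_le_of_card_ge
    (perfPart_map_conj_le (Coprime.map_conj_eq hg).le) (by rw [Coprime.card_map_conj]))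

/-- Modulo a normal subgroup, the commutator of products is the product of commutators. -/
theorem commutator_sup_le' {K Z : Subgroup G} (hZ : Z ≤ normalizer (K : Set G)) :
    ⁅K ⊔ Z, K ⊔ Z⁆ ≤ K ⊔ ⁅Z, Z⁆ := by
  refine commutator_le.2 fun a ha b hb => ?_
  obtain ⟨k, hk, z, hz, rfl⟩ := (Coprime.mem_sup_iff hZ).1 ha
  obtain ⟨k', hk', z', hz', rfl⟩ := (Coprime.mem_sup_iff hZ).1 hb
  have e : ⁅k * z, k' * z'⁆ = k * (z * k' * z⁻¹) * (z * z' * z⁻¹ * k⁻¹ * (z * z' * z⁻¹)⁻¹) *
      (⁅z, z'⁆ * k'⁻¹ * ⁅z, z'⁆⁻¹) * ⁅z, z'⁆ := by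
    simp only [commutatorElement_def]
    group
  rw [e]
  have hzz : ⁅z, z'⁆ ∈ normalizer (K : Set G) := hZ (by
    rw [commutatorElement_def]
    exact Subgroup.mul_mem _ (Subgroup.mul_mem _ (Subgroup.mul_mem _ hz hz') (Subgroup.inv_mem _ hz))
      (Subgroup.inv_mem _ hz'))
  refine Subgroup.mul_mem _ (mem_sup_left ?_) (mem_sup_right (commutator_mem_commutator hz hz'))
  refine Subgroup.mul_mem _ (Subgroup.mul_mem _ (Subgroup.mul_mem _ hk (Coprime.conj_mem (hZ hz) hk'))
    ?_) (Coprime.conj_mem hzz (Subgroup.inv_mem _ hk'))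
  exact Coprime.conj_mem (hZ (Subgroup.mul_mem _ (Subgroup.mul_mem _ hz hz') (Subgroup.inv_mem _ hz)))
    (Subgroup.inv_mem _ hk)

/-- A perfect subgroup in `K ⊔ R` lies in `K` if `R` has no perfect subgroup but `⊥`. -/
theorem le_of_le_sup [Finite G] {Y K R : Subgroup G} (hY : ⁅Y, Y⁆ = Y)
    (hR : R ≤ normalizer (K : Set G)) (hle : Y ≤ K ⊔ R)
    (hno : ∀ Z ≤ R, ⁅Z, Z⁆ = Z → Z = ⊥) : Y ≤ K := by
  obtain ⟨Z, ⟨hZR, hZ⟩, hmin⟩ := (Set.toFinite {Z : Subgroup G | Z ≤ R ∧ Y ≤ K ⊔ Z}).exists_minimal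
    ⟨R, le_rfl, hle⟩
  have hp : ⁅Z, Z⁆ = Z := le_antisymm (commutator_le_self Z) (hmin
    ⟨(commutator_le_self Z).trans hZR, hY.ge.trans ((commutator_mono hZ hZ).trans
      (commutator_sup_le' (hZR.trans hR)))⟩ (commutator_le_self Z))
  rwa [hno Z hZR hp, sup_bot_eq] at hZ

theorem le_map_perfPart {H : Type u} [Group H] [Finite G] (f : G →* H) {X : Subgroup G}
    {K : Subgroup H} (hK : ⁅K, K⁆ = K) (hle : K ≤ X.map f) : K ≤ (perfPart X).map f := by
  obtain ⟨Z, ⟨hZX, hZ⟩, hmin⟩ := (Set.toFinite {Z : Subgroup G | Z ≤ X ∧ K ≤ Z.map f}).exists_minimal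
    ⟨X, le_rfl, hle⟩
  have hp : ⁅Z, Z⁆ = Z := le_antisymm (commutator_le_self Z) (hmin
    ⟨(commutator_le_self Z).trans hZX, by
      rw [map_commutator]; exact hK.ge.trans (commutator_mono hZ hZ)⟩ (commutator_le_self Z))
  exact hZ.trans (map_mono (le_perfPart hZX hp))

/-- A perfect subgroup of odd order is trivial. -/
theorem perfect_odd_eq_bot [Finite G] {Z : Subgroup G} (hp : ⁅Z, Z⁆ = Z)
    (ho : Odd (Nat.card Z)) : Z = ⊥ := by
  haveI := Cfsg.Agent.S0205.result ho
  have hperf : commutator Z = ⊤ := map_injective Z.subtype_injective (by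
    rw [map_subtype_commutator, hp, ← MonoidHom.range_eq_map, range_subtype])
  by_contra hne
  haveI : Nontrivial Z := (nontrivial_iff_ne_bot Z).2 hne
  exact (IsSolvable.commutator_lt_top_of_nontrivial Z).ne hperf

/-- A perfect subgroup whose 2-subgroups are abelian with central involutions is trivial. -/
theorem perfect_eq_bot_of_central [Finite G] {Z : Subgroup G} (hp : ⁅Z, Z⁆ = Z)
    (hab : ∀ T : Sylow 2 Z, IsMulCommutative ↥(T : Subgroup Z))
    (hc : ∀ z ∈ Z, z * z = 1 → ∀ y ∈ Z, Commute z y) : Z = ⊥ := by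
  haveI : Fact (Nat.Prime 2) := ⟨Nat.prime_two⟩
  refine perfect_odd_eq_bot hp ?_
  by_contra he
  obtain ⟨z, hz⟩ := exists_prime_orderOf_dvd_card' (G := Z) 2 (Nat.not_odd_iff_even.1 he).two_dvd
  have hperf : commutator Z = ⊤ := map_injective Z.subtype_injective (by
    rw [map_subtype_commutator, hp, ← MonoidHom.range_eq_map, range_subtype])
  haveI : Group.IsPerfect Z := ⟨hperf⟩
  obtain ⟨T⟩ : Nonempty (Sylow 2 Z) := inferInstance
  haveI := hab T
  have h2 : z ^ 2 = 1 := hz ▸ pow_orderOf_eq_one z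
  have h1 : z = 1 := Components.eq_one_of_perfect_center T (mem_center_iff.2 fun y =>
    Subtype.ext (hc z z.2 (by simpa [pow_two] using congrArg Subtype.val h2) y y.2).eq.symm) h2
  rw [h1, orderOf_one] at hz
  omega

end Cfsg.Agent.H88.Walter

namespace Cfsg.Agent.H88.Walter

open Subgroup Cfsg.Agent
open scoped commutatorElement

universe u

variable {G : Type u} [Group G]

/-- A perfect subgroup whose 2-subgroups have order at most two is trivial. -/
theorem perfect_eq_bot_of_small [Finite G] {Z : Subgroup G} (hp : ⁅Z, Z⁆ = Z)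
    (hs : ∀ T : Sylow 2 Z, Nat.card T ≤ 2) : Z = ⊥ := by
  classical
  haveI : Fact (Nat.Prime 2) := ⟨Nat.prime_two⟩
  obtain ⟨T⟩ : Nonempty (Sylow 2 Z) := inferInstance
  have hperf : commutator Z = ⊤ := map_injective Z.subtype_injective (by
    rw [map_subtype_commutator, hp, ← MonoidHom.range_eq_map, range_subtype])
  have hT : normalizer ((T : Subgroup Z) : Set Z) ≤ centralizer ((T : Subgroup Z) : Set Z) := by
    intro n hn
    refine mem_centralizer_iff.2 fun t ht => ?_
    have hm : n * t * n⁻¹ ∈ (T : Subgroup Z) := (mem_normalizer_iff.1 hn t).1 ht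
    by_contra hne
    have ht1 : t ≠ 1 := fun e => hne (by rw [e, one_mul, mul_one])
    have h3 : ({1, t, n * t * n⁻¹} : Finset Z).card ≤ Nat.card T := by
      classical
      haveI := Fintype.ofFinite (T : Subgroup Z)
      calc ({1, t, n * t * n⁻¹} : Finset Z).card
          ≤ ((Finset.univ : Finset (T : Subgroup Z)).image Subtype.val).card := by
            refine Finset.card_le_card fun y hy => ?_
            simp only [Finset.mem_insert, Finset.mem_singleton] at hy
            rcases hy with rfl | rfl | rfl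
            · exact Finset.mem_image.2 ⟨1, Finset.mem_univ _, rfl⟩
            · exact Finset.mem_image.2 ⟨⟨_, ht⟩, Finset.mem_univ _, rfl⟩
            · exact Finset.mem_image.2 ⟨⟨_, hm⟩, Finset.mem_univ _, rfl⟩
        _ ≤ _ := Finset.card_image_le.trans (by rw [Finset.card_univ, ← Nat.card_eq_fintype_card])
    classical
    rw [Finset.card_eq_three.2 ⟨1, t, n * t * n⁻¹, Ne.symm ht1, fun e => ht1 (by
      have := congrArg (fun w => n⁻¹ * w * n) e
      simpa [mul_assoc] using this.symm), fun e => hne (mul_inv_eq_iff_eq_mul.1 e.symm).symm, rfl⟩]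
      at h3
    have := hs T
    omega
  have hc := MonoidHom.ker_transferSylow_isComplement' T hT
  have hker : (MonoidHom.transferSylow T hT).ker = ⊤ := by
    rw [eq_top_iff, ← hperf, commutator_def, commutator_le]
    intro a _ b _
    rw [MonoidHom.mem_ker, map_commutatorElement, commutatorElement_eq_one_iff_mul_comm]
    exact Subtype.ext (mem_centralizer_iff.1 (hT (le_normalizer (SetLike.coe_mem _))) _
      (SetLike.coe_mem _))
  rw [hker, Subgroup.isComplement'_top_left] at hc
  refine perfect_odd_eq_bot hp (Nat.not_even_iff_odd.1 fun he => ?_)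
  exact T.ne_bot_of_dvd_card he.two_dvd hc

end Cfsg.Agent.H88.Walter
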