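import Cfsg.Agent.H88.Walter.Pieces

/-!
# `N(A)` permutes the members
-/

set_option autoImplicit false
set_option linter.unusedSectionVars false
set_option linter.unusedVariables false
set_option linter.style.haveILetI false

namespace Cfsg.Agent.H88.Walter

open Subgroup Cfsg.Agent
open Cfsg.Agent.H21.Walter (coreProj coreImage coreProj_eq_one_iff OddTrivialAt)

universe u

variable {G : Type u} [Group G] [Finite G]

local instance fact_two_c : Fact (Nat.Prime 2) := ⟨Nat.prime_two⟩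

theorem oddTrivialAt_congr {L L' : Type u} [Group L] [Group L'] (e : L ≃* L') {x : L}
    (hx : OddTrivialAt x) : OddTrivialAt (e x) := by
  intro W hW hfix hn
  set f : MulAut L' ≃* MulAut L := MulAut.congr e.symm
  have hconj : ∀ c : L, f (MulAut.conj (e c)) = MulAut.conj c := fun c =>
    MulEquiv.ext fun l => by simp [f, MulAut.congr]
  have h1 : W.map f.toMonoidHom = ⊥ := hx _ (by rw [card_map_of_injective f.injective]; exact hW)
    (by rintro _ ⟨w, hw, rfl⟩; simp [f, MulAut.congr, hfix w hw]) fun c hc => by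
      rw [← hconj c]
      exact le_normalizer_map _ (mem_map_of_mem _ (hn _ (mem_centralizer_singleton_iff.2
        (by rw [← map_mul, ← map_mul, mem_centralizer_singleton_iff.1 hc]))))
  rwa [map_eq_bot_iff_of_injective _ f.injective] at h1

/-- Conjugation between centralisers. -/
noncomputable def centEquiv (n c : G) :
    ↥(centralizer ({c} : Set G)) ≃* ↥(centralizer ({n * c * n⁻¹} : Set G)) where
  toFun x := ⟨n * x * n⁻¹, mem_centralizer_singleton_iff.2 (by
    calc n * x * n⁻¹ * (n * c * n⁻¹) = n * (x * c) * n⁻¹ := by group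
      _ = n * (c * x) * n⁻¹ := by rw [mem_centralizer_singleton_iff.1 x.2]
      _ = n * c * n⁻¹ * (n * x * n⁻¹) := by group)⟩
  invFun x := ⟨n⁻¹ * x * n, mem_centralizer_singleton_iff.2 (by
    calc n⁻¹ * x * n * c = n⁻¹ * (x * (n * c * n⁻¹)) * n := by group
      _ = n⁻¹ * (n * c * n⁻¹ * x) * n := by rw [mem_centralizer_singleton_iff.1 x.2]
      _ = c * (n⁻¹ * x * n) := by group)⟩
  left_inv x := Subtype.ext (by simp [mul_assoc])
  right_inv x := Subtype.ext (by simp [mul_assoc])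
  map_mul' x y := Subtype.ext (by simp [mul_assoc])

/-- Conjugation between the quotients. -/
noncomputable def barEquiv (n c : G) : Bb c ≃* Bb (n * c * n⁻¹) :=
  QuotientGroup.congr _ _ (centEquiv n c) (Cores.pPrimeCore_map_mulEquiv (centEquiv n c))

theorem barEquiv_proj (n c : G) (x : ↥(centralizer ({c} : Set G))) :
    barEquiv n c (coreProj c x) = coreProj (n * c * n⁻¹) (centEquiv n c x) :=
  rfl

theorem map_pre (n c : G) (K : Subgroup (Bb c)) :
    (pre c K).map (MulAut.conj n).toMonoidHom =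
      pre (n * c * n⁻¹) (K.map (barEquiv n c).toMonoidHom) := by
  ext y
  constructor
  · rintro ⟨x, hx, rfl⟩
    obtain ⟨hxc, hxK⟩ := mem_pre.1 hx
    exact mem_pre.2 ⟨(centEquiv n c ⟨x, hxc⟩).2,
      (barEquiv_proj n c ⟨x, hxc⟩) ▸ mem_map_of_mem _ hxK⟩
  · intro hy
    obtain ⟨hyd, hyK⟩ := mem_pre.1 hy
    obtain ⟨x, hx⟩ := (centEquiv n c).surjective ⟨y, hyd⟩
    rw [← hx, ← barEquiv_proj] at hyK
    obtain ⟨k, hk, e⟩ := hyK
    refine ⟨x, mem_pre.2 ⟨x.2, ?_⟩, congrArg Subtype.val hx⟩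
    exact (barEquiv n c).injective (show barEquiv n c k = _ from e) ▸ hk

theorem map_centralizer_equiv {X Y : Type u} [Group X] [Group Y] (e : X ≃* Y) (K : Subgroup X) :
    (centralizer (K : Set X)).map e.toMonoidHom =
      centralizer ((K.map e.toMonoidHom : Subgroup Y) : Set Y) := by
  ext y
  constructor
  · rintro ⟨x, hx, rfl⟩
    refine mem_centralizer_iff.2 ?_
    rintro _ ⟨k, hk, rfl⟩
    show e k * e x = e x * e k
    rw [← map_mul, ← map_mul, mem_centralizer_iff.1 hx k hk]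
  · intro hy
    refine ⟨e.symm y, mem_centralizer_iff.2 fun k hk => e.injective ?_, e.apply_symm_apply y⟩
    rw [map_mul, map_mul, e.apply_symm_apply]
    exact mem_centralizer_iff.1 hy _ ⟨k, hk, rfl⟩

namespace Ctx

variable {S : Sylow 2 G} {A : Subgroup G} (h : Ctx S A)
include h

theorem map_qp {n : G} (hn : n ∈ normalizer (A : Set G)) (c : G) (K : Subgroup (Bb c)) :
    (qp A c K).map (MulAut.conj n).toMonoidHom =
      qp A (n * c * n⁻¹) (K.map (barEquiv n c).toMonoidHom) := by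
  rw [qp, qp, cen, cen, map_inf _ _ _ (MulAut.conj n).injective, Coprime.map_conj_eq hn, map_pre,
    map_centralizer_equiv]

variable (hd : ShapeData.{u})
include hd

/-- The piece in terms of `A`. -/
theorem mem_piece_iff {b : G} (hb : b ∈ A) (hb1 : b ≠ 1) {K : Subgroup (Bb b)}
    (hK : Cfsg.IsComponent K) {y : Bb b} :
    y ∈ (h.sylowBar hb : Subgroup (Bb b)) ⊓ K ↔ ∃ (v : G) (hv : v ∈ centralizer ({b} : Set G)),
      v ∈ vp A b K ∧ coreProj b ⟨v, hv⟩ = y :=
  ⟨h.exists_vp_of_mem hd hb hb1 hK, fun ⟨v, hv, hvp, e⟩ => e ▸ h.image_vp_mem hd hb hvp⟩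

theorem member_conj {Q : Subgroup G} (hQ : h.Member Q) {n : G}
    (hn : n ∈ normalizer (A : Set G)) : h.Member (Q.map (MulAut.conj n).toMonoidHom) := by
  refine ⟨(map_mono hQ.1).trans (Coprime.map_conj_eq hn).le, fun e =>
    hQ.2.1 ((map_eq_bot_iff_of_injective _ (MulAut.conj n).injective).1 e), ?_⟩
  intro d hdA hd' hd1
  obtain ⟨c, hcQ, e0⟩ := hd'
  obtain rfl : d = n * c * n⁻¹ := e0.symm
  have hc1 : c ≠ 1 := fun e => hd1 (by rw [e, mul_one, mul_inv_cancel])
  obtain ⟨K, hK, hKQ, hKu⟩ := hQ.2.2 c (hQ.1 hcQ) hcQ hc1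
  refine ⟨K.map (barEquiv n c).toMonoidHom, Components.component_map_equiv _ hK,
    (by rw [← hKQ]; exact (h.map_qp hn c K).symm), fun hbal => hKu fun x hx hx1 => ?_⟩
  set K' := K.map (barEquiv n c).toMonoidHom
  let e : K ≃* K' := (barEquiv n c).subgroupMap K
  have hK' : Cfsg.IsComponent K' := Components.component_map_equiv _ hK
  obtain ⟨v, hvc, hv, ev⟩ := (h.mem_piece_iff hd (hQ.1 hcQ) hc1 hK).1
    (show (x : Bb c) ∈ (h.sylowBar (hQ.1 hcQ) : Subgroup (Bb c)) ⊓ K from hx)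
  have he : ((e x : K') : Bb (n * c * n⁻¹)) ∈
      (h.sylowBar hdA : Subgroup (Bb (n * c * n⁻¹))) ⊓ K' := by
    refine (h.mem_piece_iff hd hdA hd1 hK').2
      ⟨n * v * n⁻¹, (centEquiv n c ⟨v, hvc⟩).2, ⟨(mem_normalizer_iff.1 hn v).1 hv.1, ?_⟩, ?_⟩
    · rw [← map_pre]
      exact mem_map_of_mem _ hv.2
    · show coreProj (n * c * n⁻¹) (centEquiv n c ⟨v, hvc⟩) = barEquiv n c x
      rw [← barEquiv_proj, ev]
  have h1 := oddTrivialAt_congr e.symm (hbal (e x) he fun e1 => hx1 (e.map_eq_one_iff.1 e1))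
  rwa [e.symm_apply_apply] at h1

end Ctx

end Cfsg.Agent.H88.Walter
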