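import Cfsg.Agent.H88.Walter.Conj

/-!
# The covers of the members

Distinct members satisfy `V' ≤ Q`; `V` centralises the core at every point of `Q`; so elements
fixing the component normalise the cover, which is generated by `V` and the inverted tori.
-/

set_option autoImplicit false
set_option linter.unusedSectionVars false
set_option linter.unusedVariables false
set_option linter.style.haveILetI false

namespace Cfsg.Agent.H88.Walter

open Subgroup Cfsg.Agent
open Cfsg.Agent.H21.Walter (coreProj coreImage coreProj_eq_one_iff)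
open scoped commutatorElement

universe u

variable {G : Type u} [Group G] [Finite G]

local instance fact_two_m : Fact (Nat.Prime 2) := ⟨Nat.prime_two⟩

/-- A component with a small kernel gives an invariant pair. -/
def PairHyp (A : Subgroup G) : Prop :=
  ∀ b ∈ A, b ≠ 1 → ∀ K : Subgroup (Bb b), Cfsg.IsComponent K → Nat.card (qp A b K) ≤ 4 →
    Nat.card (qp A b K) ≤ Nat.card (vp A b K) →
    Nat.card (qp A b K) = 4 ∧ normalizer (A : Set G) ≤ normalizer (vp A b K : Set G) ∧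
      normalizer (A : Set G) ≤ normalizer (qp A b K : Set G)

/-- The cover of a member. -/
def lft (Q : Subgroup G) : Subgroup G :=
  perfPart (centralizer (Q : Set G))

/-- The piece of a member. -/
def mv (A Q : Subgroup G) : Subgroup G :=
  A ⊓ lft Q

/-- The inverted odd elements of the cover over an involution of the piece. -/
def tor (A Q : Subgroup G) : Set G :=
  {u | u ∈ lft Q ∧ Odd (orderOf u) ∧ ∃ v ∈ mv A Q, v ≠ 1 ∧ Commute u v ∧
    ∃ s ∈ mv A Q, s * u * s⁻¹ = u⁻¹}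

/-- Odd elements commuting with `Y` after commuting up to inversion. -/
theorem commute_of_inverted {Y : Subgroup G} {t s : G} (ht : Odd (orderOf t))
    (htY : t ∈ normalizer (Y : Set G)) (hsY : s ∈ centralizer (Y : Set G))
    (hinv : s * t * s⁻¹ = t⁻¹) : t ∈ centralizer (Y : Set G) := by
  refine mem_centralizer_iff.2 fun y hy => ?_
  have h1 : s * (t * y * t⁻¹) * s⁻¹ = t * y * t⁻¹ := by
    rw [← mem_centralizer_iff.1 hsY _ (Coprime.conj_mem htY hy), mul_inv_cancel_right]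
  have h2 : s * (t * y * t⁻¹) * s⁻¹ = t⁻¹ * y * t := by
    rw [show s * (t * y * t⁻¹) * s⁻¹ = s * t * s⁻¹ * (s * y * s⁻¹) * (s * t * s⁻¹)⁻¹ by group,
      hinv, ← mem_centralizer_iff.1 hsY y hy, mul_inv_cancel_right, inv_inv]
  have h3 : Commute y (t ^ 2) := by
    show y * t ^ 2 = t ^ 2 * y
    have := congrArg (fun w => t * w * t) (h1.symm.trans h2)
    simp only [mul_assoc, inv_mul_cancel, mul_one, mul_inv_cancel_left] at this
    rw [pow_two, ← this]
    group
  obtain ⟨j, hj⟩ := ht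
  have h4 := h3.pow_right (j + 1)
  rwa [← pow_mul, show 2 * (j + 1) = (2 * j + 1) + 1 by ring, pow_succ, ← hj, pow_orderOf_eq_one,
    one_mul] at h4

namespace Ctx

variable {S : Sylow 2 G} {A : Subgroup G} (h : Ctx S A) (hd : ShapeData.{u})
include h hd

theorem member_ne {Q : Subgroup G} (hQ : h.Member Q) : ∃ c ∈ Q, c ≠ 1 := by
  by_contra! hc
  exact hQ.2.1 ((eq_bot_iff_forall Q).2 hc)

/-- The component of a member at `c`. -/
theorem member_comp {Q : Subgroup G} (hQ : h.Member Q) {c : G} (hcQ : c ∈ Q) (hc1 : c ≠ 1) :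
    ∃ K : Subgroup (Bb c), Cfsg.IsComponent K ∧ qp A c K = Q ∧ vp A c K = mv A Q ∧
      hat A c K = lft Q ∧ h.Unb (hQ.1 hcQ) K ∧ lft Q ≤ centralizer ({c} : Set G) := by
  obtain ⟨K, hK, hKQ, hu⟩ := hQ.2.2 c (hQ.1 hcQ) hcQ hc1
  have e : hat A c K = lft Q := by rw [hat, hKQ, lft]
  refine ⟨K, hK, hKQ, ?_, e, hu, e ▸ h.hat_le hd (hQ.1 hcQ) hc1 hK⟩
  rw [mv, ← e, h.hat_inf hd (hQ.1 hcQ) hc1 hK]

theorem lft_le_cent (Q : Subgroup G) : lft Q ≤ centralizer (Q : Set G) :=
  perfPart_le _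

theorem mv_card {Q : Subgroup G} (hQ : h.Member Q) :
    Nat.card (mv A Q) = 4 ∧ 4 * Nat.card Q = Nat.card A := by
  obtain ⟨c, hc, hc1⟩ := h.member_ne hd hQ
  obtain ⟨K, hK, hKQ, hKV, -, hu, -⟩ := h.member_comp hd hQ hc hc1
  have h1 := h.card_mul hd (hQ.1 hc) hc1 hK
  have h2 := h.unb_card hd (hQ.1 hc) hc1 hK hu
  rw [hKV] at h1 h2
  rw [hKQ, h2] at h1
  exact ⟨h2, h1⟩

theorem mv_inf {Q : Subgroup G} (hQ : h.Member Q) : mv A Q ⊓ Q = ⊥ := by
  obtain ⟨c, hc, hc1⟩ := h.member_ne hd hQ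
  obtain ⟨K, hK, hKQ, hKV, -, -, -⟩ := h.member_comp hd hQ hc hc1
  rw [← hKV, ← hKQ]
  exact h.vp_inf_qp hd (hQ.1 hc) hK

theorem mv_exists_ne {Q : Subgroup G} (hQ : h.Member Q) : ∃ v ∈ mv A Q, v ≠ 1 := by
  by_contra! hc
  have := (h.mv_card hd hQ).1
  rw [(eq_bot_iff_forall (mv A Q)).2 hc, Subgroup.card_bot] at this
  omega

theorem member_decomp {Q : Subgroup G} (hQ : h.Member Q) {a : G} (ha : a ∈ A) :
    ∃ v ∈ mv A Q, ∃ q ∈ Q, v * q = a := by
  obtain ⟨c, hc, hc1⟩ := h.member_ne hd hQ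
  obtain ⟨K, hK, hKQ, hKV, -, -, -⟩ := h.member_comp hd hQ hc hc1
  obtain ⟨v, hv, q, hq, e⟩ := h.exists_decomp hd (hQ.1 hc) hc1 hK ha
  exact ⟨v, hKV ▸ hv, q, hKQ ▸ hq, e⟩

theorem member_trans {Q : Subgroup G} (hQ : h.Member Q) {v w : G} (hv : v ∈ mv A Q)
    (hw : w ∈ mv A Q) (hv1 : v ≠ 1) (hw1 : w ≠ 1) :
    ∃ n ∈ normalizer (A : Set G), (∀ q ∈ Q, n * q * n⁻¹ = q) ∧ n * v * n⁻¹ = w := by
  obtain ⟨c, hc, hc1⟩ := h.member_ne hd hQ
  obtain ⟨K, hK, hKQ, hKV, -, -, -⟩ := h.member_comp hd hQ hc hc1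
  obtain ⟨n, hn, hq, -, e⟩ := h.exists_trans hd (hQ.1 hc) hc1 hK (hKV.symm ▸ hv) (hKV.symm ▸ hw) hv1 hw1
  exact ⟨n, hn.1, fun q hqQ => hq q (hKQ.symm ▸ hqQ), e⟩

theorem mv_le_member (hpair : PairHyp A) {Q Q' : Subgroup G} (hQ : h.Member Q) (hQ' : h.Member Q')
    (hne : Q' ≠ Q) : mv A Q' ≤ Q := by
  by_cases hc : ∃ c ∈ Q, c ∈ Q' ∧ c ≠ 1
  · obtain ⟨c, hcQ, hcQ', hc1⟩ := hc
    obtain ⟨K, hK, hKQ, -, -, -, -⟩ := h.member_comp hd hQ hcQ hc1
    obtain ⟨K', hK', hKQ', hKV', -, -, -⟩ := h.member_comp hd hQ' hcQ' hc1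
    rw [← hKV', ← hKQ]
    refine h.vp_le_qp hd (hQ.1 hcQ) hK hK' fun e => hne ?_
    rw [← hKQ', ← hKQ, e]
  push Not at hc
  -- the rank is four
  have hdis : Q ⊓ Q' = ⊥ := (eq_bot_iff_forall _).2 fun x hx => hc x hx.1 hx.2
  obtain ⟨hV, hA1⟩ := h.mv_card hd hQ
  obtain ⟨hV', hA2⟩ := h.mv_card hd hQ'
  have hQ4 : Nat.card Q ≤ 4 := by
    have hQn : Q ≤ normalizer (Q' : Set G) := fun x hx => centralizer_le_normalizer _
      (mem_centralizer_iff.2 fun y hy => (h.comm (h.le_S (hQ'.1 hy)) (h.le_S (hQ.1 hx))).eq)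
    have h1 := Coprime.card_sup hQn (by rw [inf_comm]; exact hdis)
    have h2 := card_le_of_le (sup_le hQ'.1 hQ.1)
    rw [h1] at h2
    have h3 : Nat.card Q' = Nat.card Q := by omega
    rw [h3] at h2
    nlinarith
  obtain ⟨c, hcQ, hc1⟩ := h.member_ne hd hQ
  obtain ⟨K, hK, hKQ, hKV, -, -, -⟩ := h.member_comp hd hQ hcQ hc1
  obtain ⟨-, -, hNQ⟩ := hpair c (hQ.1 hcQ) hc1 K hK (by rw [hKQ]; exact hQ4)
    (by rw [hKQ, hKV, hV]; exact hQ4)
  rw [hKQ] at hNQ
  -- two elements of the piece of `Q'` lie in `Q`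
  obtain ⟨v, hv, r, hr, e⟩ := h.member_decomp hd hQ' (hQ.1 hcQ)
  have hv1 : v ≠ 1 := fun e1 => hc1 (hc c hcQ (by rw [← e, e1, one_mul]; exact hr))
  have hmem : ∀ w ∈ mv A Q', w ≠ 1 → v * w ∈ Q := fun w hw hw1 => by
    obtain ⟨n, hn, hq, hnv⟩ := h.member_trans hd hQ' hv hw hv1 hw1
    have h1 := Coprime.conj_mem (hNQ hn) hcQ
    have h2 : n * c * n⁻¹ = w * r := by
      rw [← e, show n * (v * r) * n⁻¹ = n * v * n⁻¹ * (n * r * n⁻¹) by group, hnv, hq r hr]
    rw [h2] at h1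
    have hvw := Subgroup.mul_mem _ hcQ h1
    rw [← e] at hvw
    rwa [show v * r * (w * r) = v * w by
      rw [show v * r * (w * r) = v * (r * w) * r by group,
        (h.comm (h.le_S (hQ'.1 hr)) (h.le_S hw.1)).eq,
        show v * (w * r) * r = v * w * (r * r) by group, h.sq (hQ'.1 hr), mul_one]] at hvw
  have hsq : v * v = 1 := h.sq hv.1
  obtain ⟨w, hw, hw1, hwv⟩ : ∃ w ∈ mv A Q', w ≠ 1 ∧ w ≠ v := by
    by_contra! hall
    classical
    haveI := Fintype.ofFinite (mv A Q')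
    have h2 : (Finset.univ : Finset (mv A Q')) ⊆ {1, ⟨v, hv⟩} := fun x _ => by
      simp only [Finset.mem_insert, Finset.mem_singleton]
      by_cases hx1 : (x : G) = 1
      · exact Or.inl (Subtype.ext hx1)
      · exact Or.inr (Subtype.ext (hall x x.2 hx1))
    have h3 := (Finset.card_le_card h2).trans Finset.card_le_two
    rw [Finset.card_univ, ← Nat.card_eq_fintype_card] at h3
    omega
  have hvwne : v * w ≠ 1 := fun e1 => hwv (by
    rw [← mul_right_inj v, e1, hsq])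
  have hvwQ := hmem w hw hw1
  have hw' : w ∈ Q := by
    have h1 := hmem (v * w) (Subgroup.mul_mem _ hv hw) hvwne
    rwa [← mul_assoc, hsq, one_mul] at h1
  have hv' : v ∈ Q := by
    have h1 := Subgroup.mul_mem _ hvwQ hw'
    rwa [mul_assoc, h.sq hw.1, mul_one] at h1
  intro x hx
  by_cases hx1 : x = 1
  · rw [hx1]; exact Subgroup.one_mem _
  have h1 := Subgroup.mul_mem _ hv' (hmem x hx hx1)
  rwa [← mul_assoc, hsq, one_mul] at h1

/-- The core at `a` is generated by its fixed points and its pieces. -/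
theorem core_le_of_pieces {a : G} (ha : a ∈ A) {M : Subgroup G}
    (hU : core a ⊓ centralizer (A : Set G) ≤ M)
    (hP : ∀ (x : G) (H : Subgroup G) (s : G), IsPiece A a x H s → x ≠ 1 → x ∈ M) :
    core a ≤ M := by
  haveI := h.elem.1
  have hAN : A ≤ normalizer (core a : Set G) := (h.le_cent ha).trans (core_normal a)
  have hcop : (Nat.card A).Coprime (Nat.card (core a)) := by
    obtain ⟨k, hk⟩ := IsPGroup.iff_card.1 h.isPGroup
    rw [hk]
    exact Nat.Coprime.pow_left k (Nat.coprime_two_left.2 (core_odd a))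
  refine Coprime.le_of_centralizer_cyclic_quotient_le hAN hcop fun B hB ⟨s, hs, hBs⟩ w hw => ?_
  by_cases hsB : s ∈ B
  · refine hU ⟨hw.1, ?_⟩
    have : B = A := le_antisymm hB (hBs ▸ sup_le le_rfl (zpowers_le.2 hsB))
    exact this ▸ hw.2
  have hcard : Nat.card B * 2 = Nat.card A := by
    have hn : zpowers s ≤ normalizer (B : Set G) := zpowers_le.2 (centralizer_le_normalizer _
      (mem_centralizer_iff.2 fun y hy => (h.comm (h.le_S (hB hy)) (h.le_S hs)).eq))
    have hd : B ⊓ zpowers s = ⊥ := (eq_bot_iff_forall _).2 fun y hy => by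
      obtain ⟨i, rfl⟩ := mem_zpowers_iff.1 hy.2
      rcases Int.even_or_odd' i with ⟨j, rfl | rfl⟩
      · rw [zpow_mul, zpow_two, h.sq hs, one_zpow]
      · exfalso
        have := hy.1
        rw [zpow_add, zpow_mul, zpow_two, h.sq hs, one_zpow, one_mul, zpow_one] at this
        exact hsB this
    have := Coprime.card_sup hn hd
    rw [hBs, Nat.card_zpowers, h.orderOf_eq hs fun e => hsB (e ▸ one_mem B)] at this
    exact this.symm
  set d := w⁻¹ * (s * w * s⁻¹)
  have hsw : s * w * s⁻¹ ∈ core a ⊓ centralizer (B : Set G) := by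
    refine ⟨Coprime.conj_mem (hAN hs) hw.1, mem_centralizer_iff.2 fun y hy => ?_⟩
    have c1 : Commute y s := h.comm (h.le_S (hB hy)) (h.le_S hs)
    exact ((c1.mul_right (mem_centralizer_iff.1 hw.2 y hy : Commute y w)).mul_right c1.inv_right).eq
  have hdm : d ∈ core a ⊓ centralizer (B : Set G) :=
    Subgroup.mul_mem _ (Subgroup.inv_mem _ hw) hsw
  have hss : s⁻¹ = s := h.inv_eq hs
  have hdinv : s * d * s⁻¹ = d⁻¹ := by
    simp only [d, mul_inv_rev, inv_inv]
    rw [hss, show s * (w⁻¹ * (s * w * s)) * s = s * w⁻¹ * s * w * (s * s) by group,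
      h.sq hs, mul_one]
    simp [mul_assoc]
  obtain ⟨j, hj⟩ := odd_of_mem (core_odd a) hdm.1
  set i := d ^ (j + 1)
  have hi2 : i * i = d := by
    rw [← pow_add, show j + 1 + (j + 1) = (2 * j + 1) + 1 by ring, pow_succ, ← hj,
      pow_orderOf_eq_one, one_mul]
  have hiinv : s * i * s⁻¹ = i⁻¹ := by
    rw [← conj_pow, hdinv, inv_pow]
  have hum : w * i ∈ core a ⊓ centralizer (B : Set G) :=
    Subgroup.mul_mem _ hw (Subgroup.pow_mem _ hdm _)
  have hus : Commute s (w * i) := by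
    refine mul_inv_eq_iff_eq_mul.1 ?_
    rw [show s * (w * i) * s⁻¹ = s * w * s⁻¹ * (s * i * s⁻¹) by group, hiinv,
      show s * w * s⁻¹ = w * (i * i) by rw [hi2]; simp [d]]
    group
  have huA : w * i ∈ centralizer (A : Set G) := by
    refine mem_centralizer_iff.2 fun y hy => ?_
    have hle : A ≤ centralizer ({w * i} : Set G) := hBs.ge.trans (sup_le
      (fun b hb => mem_centralizer_singleton_iff.2 (mem_centralizer_iff.1 hum.2 b hb))
      (zpowers_le.2 (mem_centralizer_singleton_iff.2 hus.eq)))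
    exact mem_centralizer_singleton_iff.1 (hle hy)
  have hiM : i ∈ M := by
    by_cases hi1 : i = 1
    · rw [hi1]; exact Subgroup.one_mem _
    · exact hP i B s ⟨Subgroup.pow_mem _ hdm.1 _, hB, hcard, Subgroup.pow_mem _ hdm.2 _, hs, hsB,
        hiinv⟩ hi1
  have := Subgroup.mul_mem _ (hU ⟨hum.1, huA⟩) (Subgroup.inv_mem _ hiM)
  rwa [mul_inv_cancel_right] at this

variable (hΔ : DeltaHyp A) (hpair : PairHyp A)
include hΔ hpair

/-- The piece of a member centralises the cores at the member. -/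
theorem mv_cent_core {Q : Subgroup G} (hQ : h.Member Q) {c : G} (hc : c ∈ Q) :
    mv A Q ≤ centralizer (core c : Set G) := by
  rw [le_centralizer_iff]
  refine h.core_le_of_pieces hd (hQ.1 hc) (inf_le_right.trans (centralizer_le inf_le_left))
    fun x H s hp hx1 => ?_
  obtain ⟨Q', hQ', hQH, hcQ'⟩ := h.exists_member hd hΔ hp (hQ.1 hc) hx1
  exact centralizer_le ((h.mv_le_member hd hpair hQ' hQ (fun e => hcQ' (e ▸ hc))).trans hQH) hp.fix

/-- A member centralises the cores at its piece. -/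
theorem member_cent_core {Q : Subgroup G} (hQ : h.Member Q) {a : G} (ha : a ∈ mv A Q) :
    Q ≤ centralizer (core a : Set G) := by
  rw [le_centralizer_iff]
  refine h.core_le_of_pieces hd ha.1 (inf_le_right.trans (centralizer_le hQ.1))
    fun x H s hp hx1 => ?_
  obtain ⟨Q', hQ', hQH, haQ'⟩ := h.exists_member hd hΔ hp ha.1 hx1
  have : Q = Q' := by_contra fun e => haQ' (h.mv_le_member hd hpair hQ' hQ e ha)
  exact centralizer_le (this.le.trans hQH) hp.fix

theorem lft_cent_core {Q : Subgroup G} (hQ : h.Member Q) {c : G} (hc : c ∈ Q) (hc1 : c ≠ 1) :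
    ⁅lft Q, core c⁆ = ⊥ := by
  obtain ⟨K, hK, hKQ, hKV, e, -, -⟩ := h.member_comp hd hQ hc hc1
  rw [← e]
  exact h.hat_cent_core hd (hQ.1 hc) hc1 hK (hKV.le.trans (h.mv_cent_core hd hΔ hpair hQ hc))

theorem norm_lft {Q : Subgroup G} (hQ : h.Member Q) {c : G} (hc : c ∈ Q) (hc1 : c ≠ 1) {g : G}
    (hg : g ∈ centralizer ({c} : Set G))
    (hfix : ∀ K : Subgroup (Bb c), Cfsg.IsComponent K → vp A c K = mv A Q →
      coreProj c ⟨g, hg⟩ ∈ normalizer (K : Set (Bb c))) : g ∈ normalizer (lft Q : Set G) := by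
  obtain ⟨K, hK, hKQ, hKV, e, -, -⟩ := h.member_comp hd hQ hc hc1
  rw [← e]
  exact h.norm_hat hd (hQ.1 hc) hc1 hK (hKV.le.trans (h.mv_cent_core hd hΔ hpair hQ hc)) hg
    (hfix K hK hKV)

/-- An element centralising a point of a member and a point of its piece normalises the cover. -/
theorem norm_of_commute {Q : Subgroup G} (hQ : h.Member Q) {c : G} (hc : c ∈ Q) (hc1 : c ≠ 1)
    {v : G} (hv : v ∈ mv A Q) (hv1 : v ≠ 1) {g : G} (hgc : Commute g c) (hgv : Commute g v) :
    g ∈ normalizer (lft Q : Set G) :=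
  h.norm_lft hd hΔ hpair hQ hc hc1 (mem_centralizer_singleton_iff.2 hgc.eq)
    fun K hK e => h.fixes_of_commute hd (hQ.1 hc) hK _ (e.symm ▸ hv) hv1 hgv

/-- The cover of a member is generated by its piece and the inverted tori. -/
theorem lft_gen {Q : Subgroup G} (hQ : h.Member Q) :
    lft Q = closure ((mv A Q : Set G) ∪ tor A Q) := by
  obtain ⟨c, hc, hc1⟩ := h.member_ne hd hQ
  obtain ⟨K, hK, hKQ, hKV, e, hu, hLc⟩ := h.member_comp hd hQ hc hc1
  have hb := hQ.1 hc
  set L := lft Q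
  set M := closure ((mv A Q : Set G) ∪ tor A Q)
  have hML : M ≤ L := (closure_le _).2 (Set.union_subset (fun x hx => hx.2) fun x hx => hx.1)
  refine le_antisymm ?_ hML
  obtain ⟨P, hg, hP⟩ := h.exists_piece hd hb hc1 hK
  obtain ⟨-, hgen⟩ := h.unb_type hd hb hc1 hK hu hP
  have himg : coreImage c L = K := by
    rw [show L = hat A c K from e.symm, h.image_hat hd hb hc1 hK]
  have hcen : ⁅L, core c⁆ = ⊥ := h.lft_cent_core hd hΔ hpair hQ hc hc1
  have hMc : M ≤ centralizer ({c} : Set G) := hML.trans hLc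
  have hKM : K ≤ coreImage c M := by
    suffices hh : (⊤ : Subgroup K) ≤ (coreImage c M).subgroupOf K by
      exact subgroupOf_eq_top.1 (top_le_iff.1 hh)
    rw [← hgen, closure_le]
    rintro y (hy | ⟨hyodd, v, hv, hv1, hyv, s, hs, hsy⟩)
    · rw [hP] at hy
      obtain ⟨v, hvc, hv, ev⟩ := h.exists_vp_of_mem hd hb hc1 hK (y := (y : Bb c)) hy
      show (y : Bb c) ∈ coreImage c M
      rw [← ev]
      exact coreImage_mem hvc (subset_closure (Or.inl (hKV ▸ hv)))
    · rw [hP] at hv hs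
      obtain ⟨v', hv'c, hv', ev⟩ := h.exists_vp_of_mem hd hb hc1 hK (y := (v : Bb c)) hv
      obtain ⟨s', hs'c, hs', es⟩ := h.exists_vp_of_mem hd hb hc1 hK (y := (s : Bb c)) hs
      rw [hKV] at hv' hs'
      have hyK : (y : Bb c) ∈ coreImage c L := himg.symm ▸ y.2
      obtain ⟨t0, ht0c, ht0, et0⟩ := mem_coreImage.1 hyK
      -- the commutator `[t₀, v']` is central of odd order, hence trivial
      have hvK : Commute (coreProj c ⟨t0, ht0c⟩) (coreProj c ⟨v', hv'c⟩) := by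
        rw [et0, ev]; exact congrArg Subtype.val hyv.eq
      have hcomm : Commute t0 v' := by
        set k := t0⁻¹ * (v' * t0 * v'⁻¹)
        have hkc : k ∈ core c := (coreProj_eq_one_iff
          (x := ⟨t0, ht0c⟩⁻¹ * (⟨v', hv'c⟩ * ⟨t0, ht0c⟩ * ⟨v', hv'c⟩⁻¹))).1 (by
            rw [map_mul, map_inv, map_mul, map_mul, map_inv, ← hvK.eq, mul_inv_cancel_right,
              inv_mul_cancel])
        have hvk : Commute v' k :=
          (mem_centralizer_iff.1 (commutator_eq_bot_iff_le_centralizer.1 hcen hv'.2) k hkc).symm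
        have htk : Commute t0 k :=
          (mem_centralizer_iff.1 (commutator_eq_bot_iff_le_centralizer.1 hcen ht0) k hkc).symm
        have e1 : v' * t0 * v'⁻¹ = t0 * k := by simp [k]
        have e2 : t0 = t0 * k * k := by
          calc t0 = v' * (v' * t0 * v'⁻¹) * v'⁻¹ := by
                rw [h.inv_eq hv'.1, show v' * (v' * t0 * v') * v' = (v' * v') * t0 * (v' * v') by
                  group, h.sq hv'.1, one_mul, mul_one]
            _ = (v' * t0 * v'⁻¹) * (v' * k * v'⁻¹) := by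
                rw [show v' * (v' * t0 * v'⁻¹) * v'⁻¹ = v' * (t0 * k) * v'⁻¹ by rw [e1]]
                group
            _ = t0 * k * k := by rw [e1, hvk.eq, mul_inv_cancel_right]
        have hk1 : k = 1 := H21.Walter.eq_one_of_odd (core_odd c) hkc
          (left_eq_mul.1 (e2.trans (mul_assoc _ _ _)))
        rw [hk1, mul_one] at e1
        exact (mul_inv_eq_iff_eq_mul.1 e1).symm
      set u := s' * t0 * s'⁻¹ * t0⁻¹
      have hss : s'⁻¹ = s' := h.inv_eq hs'.1
      have hu' : coreProj c ⟨u, by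
          exact mul_mem (mul_mem (mul_mem hs'c ht0c) (inv_mem hs'c)) (inv_mem ht0c)⟩ =
          ((y⁻¹ * y⁻¹ : K) : Bb c) := by
        show coreProj c (⟨s', hs'c⟩ * ⟨t0, ht0c⟩ * ⟨s', hs'c⟩⁻¹ * ⟨t0, ht0c⟩⁻¹) = _
        rw [map_mul, map_mul, map_mul, map_inv, map_inv, et0, es]
        exact congrArg Subtype.val (show s * y * s⁻¹ * y⁻¹ = y⁻¹ * y⁻¹ by rw [hsy])
      have huL : u ∈ L :=
        Subgroup.mul_mem _ (Subgroup.mul_mem _ (Subgroup.mul_mem _ hs'.2 ht0)
          (Subgroup.inv_mem _ hs'.2)) (Subgroup.inv_mem _ ht0)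
      have huv : Commute u v' := by
        have c1 : Commute s' v' := h.comm (h.le_S hs'.1) (h.le_S hv'.1)
        exact ((c1.mul_left hcomm).mul_left c1.inv_left).mul_left hcomm.inv_left
      have huinv : s' * u * s'⁻¹ = u⁻¹ := by
        simp only [u, hss, mul_inv_rev, inv_inv]
        rw [show s' * (s' * t0 * s' * t0⁻¹) * s' = s' * s' * t0 * s' * t0⁻¹ * s' by group,
          h.sq hs'.1, one_mul]
        simp [mul_assoc]
      have hodd : Odd (orderOf u) := by
        obtain ⟨j, hj⟩ := hyodd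
        have hpow : u ^ (2 * j + 1) ∈ core c := (coreProj_eq_one_iff (x := (⟨u, by
          exact mul_mem (mul_mem (mul_mem hs'c ht0c) (inv_mem hs'c)) (inv_mem ht0c)⟩ :
          ↥(centralizer ({c} : Set G))) ^ (2 * j + 1))).1 (by
          rw [map_pow, hu', ← Subgroup.coe_pow, ← mul_inv_rev, inv_pow, ← pow_two, ← pow_mul,
            mul_comm, pow_mul, ← hj, pow_orderOf_eq_one]
          simp)
        have h1 : orderOf u ∣ (2 * j + 1) * Nat.card (core c) := orderOf_dvd_of_pow_eq_one (by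
          rw [pow_mul]
          exact orderOf_dvd_iff_pow_eq_one.1 (orderOf_dvd_natCard _ hpow))
        exact ((odd_two_mul_add_one j).mul (core_odd c)).of_dvd_nat h1
      have hum : u ∈ M := subset_closure (Or.inr ⟨huL, hodd, v', hv', fun e1 => hv1 (Subtype.ext (by
        rw [← ev]; subst e1; exact map_one (coreProj c))), huv, s', hs', huinv⟩)
      have hy2 : ((y⁻¹ * y⁻¹ : K) : Bb c) ∈ coreImage c M := hu' ▸ coreImage_mem _ hum
      obtain ⟨j, hj⟩ := hyodd
      have hy3 : (y⁻¹ * y⁻¹) ^ j = y := by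
        have hpo := pow_orderOf_eq_one y
        rw [hj, pow_succ, mul_eq_one_iff_eq_inv] at hpo
        rw [← mul_inv_rev, inv_pow, ← pow_two, ← pow_mul, hpo, inv_inv]
      show (y : Bb c) ∈ coreImage c M
      rw [← hy3, Subgroup.coe_pow]
      exact Subgroup.pow_mem _ hy2 j
  have hLM : L ≤ M ⊔ (core c ⊓ L) := fun l hl => by
    have h1 : coreProj c ⟨l, hLc hl⟩ ∈ coreImage c M :=
      hKM (himg ▸ coreImage_mem (hLc hl) hl)
    obtain ⟨m, hmc, hm, em⟩ := mem_coreImage.1 h1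
    have hk : m⁻¹ * l ∈ core c := (coreProj_eq_one_iff (x := ⟨m, hmc⟩⁻¹ * ⟨l, hLc hl⟩)).1
      (by rw [map_mul, map_inv, em, inv_mul_cancel])
    have := mul_mem_sup hm (show m⁻¹ * l ∈ core c ⊓ L from
      ⟨hk, Subgroup.mul_mem _ (Subgroup.inv_mem _ (hML hm)) hl⟩)
    rwa [mul_inv_cancel_left] at this
  have hR : core c ⊓ L ≤ normalizer (M : Set G) :=
    inf_le_left.trans ((le_centralizer_iff.1 (hML.trans
      (commutator_eq_bot_iff_le_centralizer.1 hcen))).trans (centralizer_le_normalizer _))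
  exact le_of_le_sup (perfPart_perfect _) hR hLM fun Z hZ hp =>
    perfect_odd_eq_bot hp (odd_of_le (core_odd c) (hZ.trans inf_le_left))

/-- To centralise `Y` it is enough that the piece and the tori do. -/
theorem lft_le_of_gen {Q : Subgroup G} (hQ : h.Member Q) {M : Subgroup G} (hV : mv A Q ≤ M)
    (hT : ∀ u ∈ tor A Q, u ∈ M) : lft Q ≤ M := by
  rw [h.lft_gen hd hΔ hpair hQ]
  exact (closure_le _).2 (Set.union_subset hV hT)

/-- Distinct members have commuting covers. -/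
theorem lft_commute {Q Q' : Subgroup G} (hQ : h.Member Q) (hQ' : h.Member Q') (hne : Q' ≠ Q) :
    lft Q' ≤ centralizer (lft Q : Set G) := by
  have hV'Q := h.mv_le_member hd hpair hQ hQ' hne
  have hVQ' := h.mv_le_member hd hpair hQ' hQ (Ne.symm hne)
  have hcent : mv A Q' ≤ centralizer (lft Q : Set G) :=
    hV'Q.trans (le_centralizer_iff.1 (h.lft_le_cent hd Q))
  refine h.lft_le_of_gen hd hΔ hpair hQ' hcent fun u hu => ?_
  obtain ⟨hu0, hodd, v, hv, hv1, huv, s, hs, hinv⟩ := hu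
  obtain ⟨w, hw, hw1⟩ := h.mv_exists_ne hd hQ
  have huw : Commute u w :=
    (mem_centralizer_iff.1 (h.lft_le_cent hd Q' hu0) w (hVQ' hw)).symm
  exact commute_of_inverted hodd (h.norm_of_commute hd hΔ hpair hQ (hV'Q hv) hv1 hw hw1 huv huw)
    (hcent hs) hinv

end Ctx

end Cfsg.Agent.H88.Walter
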