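import Cfsg.Agent.H88.Walter.Piece
import Cfsg.Agent.Linear.Dickson.Maximal

/-!
# The piece facts for `PSL(2, q)`, `q` odd, `q ≡ 3, 5 (mod 8)`

The centraliser of an involution is the normaliser of its torus, a maximal subgroup for `q ≥ 11`;
the odd parts of the tori generate.
-/

set_option autoImplicit false

namespace Cfsg.Agent.H88.Walter.PSL

open Subgroup Cfsg.Agent.Linear.Dickson

variable {F : Type*} [Field F] [Fintype F]

local notation "P2" => Matrix.ProjectiveSpecialLinearGroup (Fin 2) F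

theorem not_isUni {v : P2} (hodd : Odd (Fintype.card F)) (hv1 : v ≠ 1) (hv : v * v = 1) : ¬ IsUni v := by
  obtain ⟨p, hchar⟩ := CharP.exists F
  have hp : Fact p.Prime := ⟨CharP.char_is_prime F p⟩
  intro h
  have h2 : p ≠ 2 := by
    rintro rfl
    obtain ⟨n, -, hn⟩ := FiniteField.card F 2
    exact Nat.not_even_iff_odd.2 hodd (hn ▸ (Nat.even_pow.2 ⟨even_two, n.pos.ne'⟩))
  have hpow := pow_char_eq_one_of_isUni p h
  obtain ⟨k, hk⟩ := hp.out.odd_of_ne_two h2
  rw [hk, pow_succ, pow_mul, pow_two, hv, one_pow, one_mul] at hpow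
  exact hv1 hpow

theorem eq_or_eq_of_sq {v g : P2} (hodd : Odd (Fintype.card F)) (hv1 : v ≠ 1) (hv : v * v = 1)
    (hg : g ∈ cen v) (hg2 : g * g = 1) : g = 1 ∨ g = v := by
  have := isCyclic_cen (not_isUni hodd hv1 hv)
  by_contra hne
  rw [not_or] at hne
  have h1 : orderOf (⟨g, hg⟩ : cen v) = 2 :=
    orderOf_eq_prime (Subtype.ext (by simpa [pow_two] using hg2))
      fun h => hne.1 (congrArg Subtype.val h)
  have h2 : orderOf (⟨v, mem_cen_self v⟩ : cen v) = 2 :=
    orderOf_eq_prime (Subtype.ext (by simpa [pow_two] using hv))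
      fun h => hv1 (congrArg Subtype.val h)
  have := Fintype.ofFinite (cen v)
  classical
  have hcard := IsCyclic.card_orderOf_eq_totient (α := cen v) (d := 2) (by
    have h := orderOf_dvd_natCard (⟨g, hg⟩ : cen v)
    rw [h1] at h
    rwa [← Nat.card_eq_fintype_card])
  rw [Nat.totient_two, Finset.card_eq_one] at hcard
  obtain ⟨w, hw⟩ := hcard
  have hg' : (⟨g, hg⟩ : cen v) = w :=
    Finset.mem_singleton.1 (hw ▸ Finset.mem_filter.2 ⟨Finset.mem_univ _, h1⟩)
  have hv' : (⟨v, mem_cen_self v⟩ : cen v) = w :=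
    Finset.mem_singleton.1 (hw ▸ Finset.mem_filter.2 ⟨Finset.mem_univ _, h2⟩)
  exact hne.2 (congrArg Subtype.val (hg'.trans hv'.symm))

/-- The centraliser of an involution is the normaliser of its torus. -/
theorem centralizer_eq {v : P2} (hodd : Odd (Fintype.card F)) (hv1 : v ≠ 1) (hv : v * v = 1) :
    centralizer ({v} : Set P2) = normalizer ((cen v : Subgroup P2) : Set P2) := by
  have hu := not_isUni hodd hv1 hv
  refine le_antisymm (fun g hg => ?_) (fun g hg => ?_)
  · rw [mem_centralizer_singleton_iff] at hg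
    refine mem_normalizer_iff.2 fun y => ?_
    have h := mem_cen_conj g v y
    rw [hg, mul_inv_cancel_right] at h
    exact h.symm
  · rw [mem_centralizer_singleton_iff]
    rcases normalizer_cases hu (mem_normalizer_iff.1 hg) with h | ⟨-, h⟩
    · exact cen_comm hv1 h (mem_cen_self v)
    · have := h v (mem_cen_self v)
      rw [inv_eq_of_mul_eq_one_right hv] at this
      exact mul_inv_eq_iff_eq_mul.1 this

/-- A second involution of the centraliser inverts the torus. -/
theorem inverts {v u : P2} (hodd : Odd (Fintype.card F)) (hv1 : v ≠ 1) (hv : v * v = 1)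
    (hu : Commute u v) (hu2 : u * u = 1) (hu1 : u ≠ 1) (huv : u ≠ v) :
    u ∉ cen v ∧ ∀ y ∈ cen v, u * y * u⁻¹ = y⁻¹ := by
  have hnot : u ∉ cen v := fun h =>
    (eq_or_eq_of_sq hodd hv1 hv h hu2).elim hu1 huv
  have hN : u ∈ normalizer ((cen v : Subgroup P2) : Set P2) := by
    rw [← centralizer_eq hodd hv1 hv, mem_centralizer_singleton_iff]
    exact hu.eq
  exact ⟨hnot, ((normalizer_cases (not_isUni hodd hv1 hv) (mem_normalizer_iff.1 hN)).resolve_left
    hnot).2⟩

theorem centralizer_four {v u : P2} (hodd : Odd (Fintype.card F)) (hv1 : v ≠ 1) (hv : v * v = 1)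
    (hu : Commute u v) (hu2 : u * u = 1) (hu1 : u ≠ 1) (huv : u ≠ v) :
    centralizer (({v, u} : Set P2)) ≤ closure ({v, u} : Set P2) := by
  intro g hg
  obtain ⟨hnot, hinv⟩ := inverts hodd hv1 hv hu hu2 hu1 huv
  have hgv : v * g = g * v := mem_centralizer_iff.1 hg v (Or.inl rfl)
  have hgu : u * g = g * u := mem_centralizer_iff.1 hg u (Or.inr rfl)
  have hv' : v ∈ closure ({v, u} : Set P2) := subset_closure (Or.inl rfl)
  have hu' : u ∈ closure ({v, u} : Set P2) := subset_closure (Or.inr rfl)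
  have key : ∀ y ∈ cen v, u * y = y * u → y ∈ closure ({v, u} : Set P2) := by
    intro y hy hyu
    have h := hinv y hy
    rw [hyu, mul_inv_cancel_right] at h
    rcases eq_or_eq_of_sq hodd hv1 hv hy (eq_inv_iff_mul_eq_one.1 h) with h' | h'
    · rw [h']; exact one_mem _
    · rw [h']; exact hv'
  have hN : g ∈ normalizer ((cen v : Subgroup P2) : Set P2) := by
    rw [← centralizer_eq hodd hv1 hv, mem_centralizer_singleton_iff]
    exact hgv.symm
  have hNu : u ∈ normalizer ((cen v : Subgroup P2) : Set P2) := by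
    rw [← centralizer_eq hodd hv1 hv, mem_centralizer_singleton_iff]
    exact hu.eq
  by_cases hgc : g ∈ cen v
  · exact key g hgc hgu
  · have hm : g * u ∈ cen v := inverter_mul_mem (not_isUni hodd hv1 hv)
      (mem_normalizer_iff.1 hN) (mem_normalizer_iff.1 hNu) hgc hnot
    have h := key _ hm (by rw [← mul_assoc, hgu])
    have := mul_mem h (inv_mem hu')
    rwa [mul_inv_cancel_right] at this

theorem card_cen_mod {v : P2} (h8 : Fintype.card F % 8 = 3 ∨ Fintype.card F % 8 = 5)
    (hv1 : v ≠ 1) (hv : v * v = 1) :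
    Nat.card (cen v) % 4 = 2 ∧ (2 * Nat.card (cen v) = Fintype.card F - 1 ∨
      2 * Nat.card (cen v) = Fintype.card F + 1) := by
  have hodd : Odd (Fintype.card F) := Nat.odd_iff.2 (by omega)
  have h2 : 2 ∣ Nat.card (cen v) := by
    have := Subgroup.orderOf_dvd_natCard _ (mem_cen_self v)
    rwa [orderOf_eq_prime (by rw [pow_two, hv]) hv1] at this
  have hd : Nat.gcd 2 (Fintype.card F - 1) = 2 := Nat.gcd_eq_left (by omega)
  have hd' : 2 ∣ Fintype.card F + 1 := by omega
  rcases card_cen_cases (not_isUni hodd hv1 hv) with e | e <;> rw [hd] at e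
  · constructor
    · omega
    · left; omega
  · constructor
    · omega
    · right; omega

/-- For `q ≥ 11` the centraliser of an involution is maximal. -/
theorem isCoatom_centralizer {v : P2} (h8 : Fintype.card F % 8 = 3 ∨ Fintype.card F % 8 = 5)
    (h11 : 11 ≤ Fintype.card F) (hv1 : v ≠ 1) (hv : v * v = 1) :
    IsCoatom (centralizer ({v} : Set P2)) := by
  have hodd : Odd (Fintype.card F) := Nat.odd_iff.2 (by omega)
  rw [centralizer_eq hodd hv1 hv]
  obtain ⟨hm, hc⟩ := card_cen_mod h8 hv1 hv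
  refine isCoatom_torus (not_isUni hodd hv1 hv) (by omega) (by omega) (by omega) (by omega) ?_
  intro he h
  rw [h] at he
  norm_num at he
  omega

theorem rigidAt {v g : P2} (h8 : Fintype.card F % 8 = 3 ∨ Fintype.card F % 8 = 5)
    (h11 : 11 ≤ Fintype.card F) (hv1 : v ≠ 1) (hv : v * v = 1) {V : Subgroup P2}
    (hg : g ∈ normalizer (V : Set P2)) (hgv : g * v * g⁻¹ ≠ v) : RigidAt V v := by
  refine rigidAt_of_generated ((isCoatom_centralizer h8 h11 hv1 hv).2 _
    (lt_of_le_of_ne le_sup_left fun h => hgv ?_))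
  have : g ∈ centralizer ({v} : Set P2) := h ▸ mem_sup_right hg
  rw [mem_centralizer_singleton_iff] at this
  rw [this, mul_inv_cancel_right]

/-- The odd part of the torus of an involution. -/
def torus (v : P2) : Subgroup P2 :=
  closure {y : P2 | ∃ x ∈ cen v, y = x ^ 2}

theorem torus_le (v : P2) : torus v ≤ cen v := by
  refine (closure_le _).2 ?_
  rintro _ ⟨x, hx, rfl⟩
  exact pow_mem hx 2

theorem torus_props {v : P2} (h8 : Fintype.card F % 8 = 3 ∨ Fintype.card F % 8 = 5)
    (h11 : 11 ≤ Fintype.card F) (hv1 : v ≠ 1) (hv : v * v = 1) :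
    Odd (Nat.card (torus v)) ∧ torus v ≠ ⊥ ∧ IsCyclic (torus v) ∧
      cen v ≤ torus v ⊔ zpowers v := by
  have hodd : Odd (Fintype.card F) := Nat.odd_iff.2 (by omega)
  obtain ⟨hm, hc⟩ := card_cen_mod h8 hv1 hv
  have hcyc := isCyclic_cen (not_isUni hodd hv1 hv)
  obtain ⟨x0, hx0⟩ := IsCyclic.exists_generator (α := cen v)
  have hx : (x0 : P2) ∈ cen v := x0.2
  have hord : orderOf (x0 : P2) = Nat.card (cen v) := by
    rw [Subgroup.orderOf_coe, orderOf_eq_card_of_forall_mem_zpowers hx0]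
  have hmem : ∀ y ∈ cen v, ∃ k : ℤ, (x0 : P2) ^ k = y := fun y hy => by
    obtain ⟨k, hk⟩ := mem_zpowers_iff.1 (hx0 ⟨y, hy⟩)
    exact ⟨k, by simpa using congrArg Subtype.val hk⟩
  have hT : torus v = zpowers ((x0 : P2) ^ 2) := by
    refine le_antisymm ((closure_le _).2 ?_) (zpowers_le.2 (subset_closure ⟨_, hx, rfl⟩))
    rintro _ ⟨y, hy, rfl⟩
    obtain ⟨k, rfl⟩ := hmem y hy
    exact ⟨k, by
      show ((x0 : P2) ^ 2) ^ k = ((x0 : P2) ^ k) ^ 2
      rw [← zpow_natCast, ← zpow_natCast (_ ^ k), ← _root_.zpow_mul, ← _root_.zpow_mul, mul_comm]⟩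
  have hcard : Nat.card (torus v) = Nat.card (cen v) / 2 := by
    rw [hT, Nat.card_zpowers, orderOf_pow, hord, Nat.gcd_eq_right (by omega)]
  refine ⟨Nat.odd_iff.2 (by omega), fun h => ?_, hT ▸ inferInstance, fun y hy => ?_⟩
  · rw [h, Subgroup.card_bot] at hcard
    omega
  · obtain ⟨k, rfl⟩ := hmem y hy
    have hhalf : (x0 : P2) ^ (Nat.card (cen v) / 2) = v := by
      refine (eq_or_eq_of_sq hodd hv1 hv (pow_mem hx _) ?_).resolve_left fun h => ?_
      · rw [← pow_add, show Nat.card (cen v) / 2 + Nat.card (cen v) / 2 = Nat.card (cen v) by omega,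
          ← hord, pow_orderOf_eq_one]
      · have := Nat.le_of_dvd (by omega) (hord ▸ orderOf_dvd_of_pow_eq_one h)
        omega
    have hgen : (x0 : P2) ∈ torus v ⊔ zpowers v := by
      obtain ⟨j, hj⟩ : Odd (Nat.card (cen v) / 2) := Nat.odd_iff.2 (by omega)
      have h1 : ((x0 : P2) ^ 2) ^ j ∈ torus v ⊔ zpowers v :=
        mem_sup_left (pow_mem (show ((x0 : P2) ^ 2) ∈ torus v from subset_closure ⟨_, hx, rfl⟩) j)
      have h2 : v ∈ torus v ⊔ zpowers v := mem_sup_right (mem_zpowers v)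
      have h3 := mul_mem (inv_mem h1) h2
      have h4 : ((x0 : P2) ^ 2) ^ j * x0 = v := by rw [← pow_mul, ← pow_succ, ← hj, hhalf]
      have h5 : (((x0 : P2) ^ 2) ^ j)⁻¹ * v = x0 := inv_mul_eq_iff_eq_mul.2 h4.symm
      rwa [h5] at h3
    exact zpow_mem hgen k

/-- The odd tori of two commuting involutions and the four group generate. -/
theorem generated {v u : P2} (h8 : Fintype.card F % 8 = 3 ∨ Fintype.card F % 8 = 5)
    (h11 : 11 ≤ Fintype.card F) (hv1 : v ≠ 1) (hv : v * v = 1)
    (hu : Commute u v) (hu2 : u * u = 1) (hu1 : u ≠ 1) (huv : u ≠ v) :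
    torus v ⊔ torus u ⊔ closure ({v, u} : Set P2) = ⊤ := by
  have hodd : Odd (Fintype.card F) := Nat.odd_iff.2 (by omega)
  obtain ⟨-, -, -, hcv⟩ := torus_props h8 h11 hv1 hv
  obtain ⟨hToddu, hTu, -, -⟩ := torus_props h8 h11 hu1 hu2
  obtain ⟨hnot, hinvv⟩ := inverts hodd hv1 hv hu hu2 hu1 huv
  set K := torus v ⊔ torus u ⊔ closure ({v, u} : Set P2) with hK
  have hCv : centralizer ({v} : Set P2) ≤ K := by
    intro g hg
    rw [centralizer_eq hodd hv1 hv] at hg
    have hcK : cen v ≤ K := hcv.trans (sup_le (le_sup_left.trans le_sup_left)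
      (zpowers_le.2 (mem_sup_right (subset_closure (Or.inl rfl)))))
    have huK : u ∈ K := mem_sup_right (subset_closure (Or.inr rfl))
    by_cases hgc : g ∈ cen v
    · exact hcK hgc
    · have hNu : u ∈ normalizer ((cen v : Subgroup P2) : Set P2) := by
        rw [← centralizer_eq hodd hv1 hv, mem_centralizer_singleton_iff]; exact hu.eq
      have := mul_mem (hcK (inverter_mul_mem (not_isUni hodd hv1 hv) (mem_normalizer_iff.1 hg)
        (mem_normalizer_iff.1 hNu) hgc hnot)) (inv_mem huK)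
      rwa [mul_inv_cancel_right] at this
  refine (isCoatom_centralizer h8 h11 hv1 hv).2 K (lt_of_le_of_ne hCv fun h => hTu ?_)
  obtain ⟨-, hinvu⟩ := inverts hodd hu1 hu2 hu.symm hv hv1 (Ne.symm huv)
  rw [eq_bot_iff]
  intro y hy
  have hyv : y * v = v * y :=
    mem_centralizer_singleton_iff.1 (h ▸ mem_sup_left (mem_sup_right hy))
  have hinv := hinvu y (torus_le u hy)
  rw [← hyv, mul_inv_cancel_right] at hinv
  refine mem_bot.2 (orderOf_eq_one_iff.1 (Nat.eq_one_of_dvd_coprimes
    (Nat.coprime_two_left.2 hToddu) (orderOf_dvd_of_pow_eq_one ?_)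
    (Subgroup.orderOf_dvd_natCard _ hy)))
  rw [pow_two, eq_inv_iff_mul_eq_one.1 hinv]

end Cfsg.Agent.H88.Walter.PSL
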