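import Mathlib

/-!
# Small group theoretic lemmas for commuting pieces
-/

set_option autoImplicit false

namespace Cfsg.Agent.H88.Walter

open Subgroup
open scoped commutatorElement

section General

variable {G : Type*} [Group G]

/-- A perfect subgroup centralising `O` which commutes with `T` modulo `O` commutes with `T`. -/
theorem commutator_eq_bot_of_perfect {L T O : Subgroup G} (hperf : ⁅L, L⁆ = L)
    (hLO : ⁅L, O⁆ = ⊥) (h : ⁅L, T⁆ ≤ O) : ⁅L, T⁆ = ⊥ := by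
  have h1 : ⁅⁅L, T⁆, L⁆ = ⊥ :=
    le_bot_iff.1 ((commutator_mono h le_rfl).trans (le_of_eq (by rw [commutator_comm, hLO])))
  have h2 : ⁅⁅T, L⁆, L⁆ = ⊥ := by rw [commutator_comm T L]; exact h1
  have h3 := commutator_commutator_eq_bot_of_rotate (H₁ := L) (H₂ := L) (H₃ := T) h1 h2
  rwa [hperf] at h3

/-- The derived series inside `G`. -/
def derivedIn (X : Subgroup G) : ℕ → Subgroup G
  | 0 => X
  | n + 1 => ⁅derivedIn X n, derivedIn X n⁆

theorem derivedIn_conj (X : Subgroup G) {x : G} (hx : X.map (MulAut.conj x).toMonoidHom = X) :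
    ∀ n, (derivedIn X n).map (MulAut.conj x).toMonoidHom = derivedIn X n
  | 0 => hx
  | n + 1 => by rw [derivedIn, map_commutator, derivedIn_conj X hx n]

theorem derivedIn_mem (X : Subgroup G) (n : ℕ) :
    derivedIn X n = (derivedSeries X n).map X.subtype := by
  induction n with
  | zero => rw [derivedIn, derivedSeries_zero, ← MonoidHom.range_eq_map, range_subtype]
  | succ n ih => rw [derivedIn, derivedSeries_succ, map_commutator, ih]

/-- A perfect subgroup centralising the solvable group `O` is invariant under the normaliser of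
`O ⊔ L`. -/
theorem normalizer_sup_le [Finite G] {O L : Subgroup G} (hO : Group.IsSolvable O)
    (hperf : ⁅L, L⁆ = L) (hLO : ⁅L, O⁆ = ⊥) :
    normalizer ((O ⊔ L : Subgroup G) : Set G) ≤ normalizer (L : Set G) := by
  obtain ⟨n, hn⟩ := hO.solvable
  have hle : ∀ k, derivedIn (O ⊔ L) k ≤ derivedIn O k ⊔ L := by
    intro k
    induction k with
    | zero => exact le_rfl
    | succ k ih =>
      refine (commutator_mono ih ih).trans ?_
      have hc : derivedIn O k ≤ O := by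
        clear ih
        induction k with
        | zero => exact le_rfl
        | succ k ih => exact (commutator_mono ih ih).trans (commutator_le_self O)
      have hLc : ⁅L, derivedIn O k⁆ = ⊥ := le_bot_iff.1 ((commutator_mono le_rfl hc).trans hLO.le)
      have hcomm : ∀ a ∈ L, ∀ b ∈ derivedIn O k, a * b = b * a := fun a ha b hb =>
        commutatorElement_eq_one_iff_mul_comm.1
          (mem_bot.1 (hLc ▸ commutator_mem_commutator ha hb))
      set P := ⁅derivedIn O k, derivedIn O k⁆ ⊔ L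
      rw [Subgroup.commutator_le]
      intro a ha b hb
      have hN : L ≤ centralizer ((derivedIn O k : Subgroup G) : Set G) := fun l hl =>
        mem_centralizer_iff.2 fun y hy => (hcomm l hl y hy).symm
      obtain ⟨o₁, ho₁, l₁, hl₁, rfl⟩ := (mem_sup_of_normal_left_aux hcomm).1 ha
      obtain ⟨o₂, ho₂, l₂, hl₂, rfl⟩ := (mem_sup_of_normal_left_aux hcomm).1 hb
      have e : ⁅o₁ * l₁, o₂ * l₂⁆ = ⁅o₁, o₂⁆ * ⁅l₁, l₂⁆ := by
        have c1 : Commute l₁ o₂ := hcomm _ hl₁ _ ho₂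
        have c2 : Commute l₂ o₁ := hcomm _ hl₂ _ ho₁
        have c3 : Commute l₁ o₁ := hcomm _ hl₁ _ ho₁
        have c4 : Commute l₂ o₂ := hcomm _ hl₂ _ ho₂
        rw [commutatorElement_def, commutatorElement_def, commutatorElement_def, mul_inv_rev,
          mul_inv_rev]
        calc o₁ * l₁ * (o₂ * l₂) * (l₁⁻¹ * o₁⁻¹) * (l₂⁻¹ * o₂⁻¹)
            = o₁ * (l₁ * o₂) * ((l₂ * l₁⁻¹) * o₁⁻¹) * (l₂⁻¹ * o₂⁻¹) := by group
          _ = o₁ * (o₂ * l₁) * (o₁⁻¹ * (l₂ * l₁⁻¹)) * (o₂⁻¹ * l₂⁻¹) := by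
            rw [c1.eq, ((c2.mul_left c3.inv_left).inv_right).eq, (c4.inv_left.inv_right).eq]
          _ = o₁ * o₂ * (l₁ * o₁⁻¹) * (l₂ * (l₁⁻¹ * o₂⁻¹)) * l₂⁻¹ := by group
          _ = o₁ * o₂ * (o₁⁻¹ * l₁) * (l₂ * (o₂⁻¹ * l₁⁻¹)) * l₂⁻¹ := by
            rw [c3.inv_right.eq, (c1.inv_left.inv_right).eq]
          _ = o₁ * o₂ * o₁⁻¹ * (l₁ * (l₂ * o₂⁻¹)) * (l₁⁻¹ * l₂⁻¹) := by group
          _ = o₁ * o₂ * o₁⁻¹ * (l₁ * (o₂⁻¹ * l₂)) * (l₁⁻¹ * l₂⁻¹) := by
            rw [c4.inv_right.eq]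
          _ = o₁ * o₂ * o₁⁻¹ * ((l₁ * o₂⁻¹) * l₂) * (l₁⁻¹ * l₂⁻¹) := by group
          _ = o₁ * o₂ * o₁⁻¹ * ((o₂⁻¹ * l₁) * l₂) * (l₁⁻¹ * l₂⁻¹) := by
            rw [c1.inv_right.eq]
          _ = o₁ * o₂ * o₁⁻¹ * o₂⁻¹ * (l₁ * l₂ * l₁⁻¹ * l₂⁻¹) := by group
      rw [e]
      exact mul_mem_sup (commutator_mem_commutator ho₁ ho₂)
        (hperf ▸ commutator_mem_commutator hl₁ hl₂)
  have hge : ∀ k, L ≤ derivedIn (O ⊔ L) k := by
    intro k
    induction k with
    | zero => exact le_sup_right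
    | succ k ih => exact hperf.ge.trans (commutator_mono ih ih)
  have heq : derivedIn (O ⊔ L) n = L := by
    refine le_antisymm ((hle n).trans (sup_le ?_ le_rfl)) (hge n)
    rw [derivedIn_mem, hn, Subgroup.map_bot]
    exact bot_le
  intro x hx
  have hx' : (O ⊔ L).map (MulAut.conj x).toMonoidHom = O ⊔ L := by
    ext y
    rw [mem_map]
    refine ⟨?_, fun hy => ⟨x⁻¹ * y * x, ?_, by simp [mul_assoc]⟩⟩
    · rintro ⟨z, hz, rfl⟩; exact (mem_normalizer_iff.1 hx z).1 hz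
    · exact (mem_normalizer_iff.1 hx _).2 (by simpa [mul_assoc] using hy)
  have hL := derivedIn_conj (O ⊔ L) hx' n
  rw [heq] at hL
  refine mem_normalizer_iff.2 fun y => ⟨fun hy => hL ▸ mem_map_of_mem _ hy, fun hy => ?_⟩
  obtain ⟨z, hz, hzy⟩ := mem_map.1 (hL.symm ▸ hy)
  rwa [← (MulAut.conj x).injective (show MulAut.conj x z = MulAut.conj x y from hzy)]
where
  mem_sup_of_normal_left_aux {G : Type _} [Group G] {H K : Subgroup G}
      (hcomm : ∀ a ∈ K, ∀ b ∈ H, a * b = b * a) {x : G} :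
      x ∈ H ⊔ K ↔ ∃ h ∈ H, ∃ k ∈ K, h * k = x := by
    refine ⟨fun hx => ?_, ?_⟩
    · have hn : K ≤ normalizer (H : Set G) := fun k hk => mem_normalizer_iff.2 fun y =>
        ⟨fun hy => by rwa [hcomm k hk y hy, mul_inv_cancel_right],
          fun hy => by
            have h := hcomm k⁻¹ (inv_mem hk) _ hy
            have e' : k⁻¹ * (k * y * k⁻¹) = y * k⁻¹ := by group
            rw [e'] at h
            have e : y = k * y * k⁻¹ := mul_right_cancel h
            rwa [e]⟩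
      rw [← SetLike.mem_coe, Subgroup.coe_mul_of_right_le_normalizer_left H K hn] at hx
      obtain ⟨h, hh, k, hk, rfl⟩ := hx
      exact ⟨h, hh, k, hk, rfl⟩
    · rintro ⟨h, hh, k, hk, rfl⟩; exact mul_mem_sup hh hk

end General

section Blocks

variable {A : Type*} [CommGroup A]

/-- Blocks permuted by a group acting transitively on a subgroup containing all `a⁻¹ g(a)`
are fixed by `g`, for `g` of odd order. -/
theorem block_fixed (blocks : Set (Subgroup A)) (Q : Subgroup A → Subgroup A)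
    (hQ : ∀ B ∈ blocks, ∀ B' ∈ blocks, B' ≠ B → B' ≤ Q B) (hBQ : ∀ B ∈ blocks, B ⊓ Q B = ⊥)
    (T : Set (MulAut A)) (hT : ∀ t ∈ T, ∀ B ∈ blocks, B.map t.toMonoidHom ∈ blocks)
    (U : Subgroup A) (htrans : ∀ x ∈ U, ∀ y ∈ U, x ≠ 1 → y ≠ 1 → ∃ t ∈ T, t x = y)
    {g : MulAut A} (hgT : g ∈ T) (hg : Odd (orderOf g)) (hgU : ∀ a, a⁻¹ * g a ∈ U)
    {V : Subgroup A} (hV : V ∈ blocks) {v w : A} (hv : v ∈ V) (hw : w ∈ V) (hv1 : v ≠ 1)
    (hw1 : w ≠ 1) (hvw : v ≠ w) : V.map g.toMonoidHom = V := by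
  by_contra hne
  set V₁ := V.map g.toMonoidHom with hV₁
  set V₂ := V₁.map g.toMonoidHom with hV₂
  have h1 : V₁ ∈ blocks := hT g hgT V hV
  have h2 : V₂ ∈ blocks := hT g hgT V₁ h1
  have h12 : V₂ ≠ V₁ := fun h => hne (map_injective g.injective h)
  have h02 : V₂ ≠ V := by
    intro h
    refine hne ?_
    have hpow : ∀ k : ℕ, V.map (g ^ (2 * k)).toMonoidHom = V := by
      intro k
      induction k with
      | zero => ext x; simp [MulAut.one_apply]
      | succ k ih =>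
        conv_rhs => rw [← h, hV₂, hV₁]
        ext x
        constructor
        · rintro ⟨a, ha, rfl⟩
          have ha' : (g ^ (2 * k)) a ∈ V := ih ▸ mem_map_of_mem _ ha
          refine ⟨g ((g ^ (2 * k)) a), ⟨_, ha', rfl⟩, ?_⟩
          show g (g ((g ^ (2 * k)) a)) = (g ^ (2 * (k + 1))) a
          rw [show 2 * (k + 1) = (2 * k + 1) + 1 by ring, pow_succ', pow_succ']
          rfl
        · rintro ⟨_, ⟨b, hb, rfl⟩, rfl⟩
          obtain ⟨a, ha, rfl⟩ := mem_map.1 (ih.symm ▸ hb)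
          refine ⟨a, ha, ?_⟩
          show (g ^ (2 * (k + 1))) a = g (g ((g ^ (2 * k)) a))
          rw [show 2 * (k + 1) = (2 * k + 1) + 1 by ring, pow_succ', pow_succ']
          rfl
    obtain ⟨j, hj⟩ := hg
    have e : g ^ (2 * (j + 1)) = g := by
      rw [show 2 * (j + 1) = (2 * j + 1) + 1 by ring, pow_succ, ← hj, pow_orderOf_eq_one, one_mul]
    have := hpow (j + 1)
    rwa [e] at this
  set y := (v⁻¹ * g v) * ((g w)⁻¹ * g (g w)) with hy
  have hyU : y ∈ U := mul_mem (hgU v) (hgU _)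
  have hgv : g v ∈ V₁ := mem_map_of_mem _ hv
  have hgw : g w ∈ V₁ := mem_map_of_mem _ hw
  have hggw : g (g w) ∈ V₂ := mem_map_of_mem _ hgw
  have hx0 : v⁻¹ * g v ≠ 1 := fun h => by
    rw [inv_mul_eq_one] at h
    have : v ∈ V ⊓ Q V := ⟨hv, hQ V hV V₁ h1 hne (h.symm ▸ hgv)⟩
    rw [hBQ V hV, mem_bot] at this
    exact hv1 this
  have hnQ : y ∉ Q V ∧ y ∉ Q V₁ ∧ y ∉ Q V₂ := by
    refine ⟨fun h => hv1 ?_, fun h => hvw ?_, fun h => hw1 ?_⟩
    · have hr : g v * ((g w)⁻¹ * g (g w)) ∈ Q V := mul_mem (hQ V hV V₁ h1 hne hgv)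
        (mul_mem (inv_mem (hQ V hV V₁ h1 hne hgw)) (hQ V hV V₂ h2 h02 hggw))
      have hh := mul_mem h (inv_mem hr)
      rw [hy, mul_assoc v⁻¹, mul_inv_cancel_right] at hh
      have : v ∈ V ⊓ Q V := ⟨hv, by simpa using inv_mem hh⟩
      rwa [hBQ V hV, mem_bot] at this
    · have hr : v⁻¹ * g (g w) ∈ Q V₁ :=
        mul_mem (inv_mem (hQ V₁ h1 V hV (Ne.symm hne) hv)) (hQ V₁ h1 V₂ h2 h12 hggw)
      have hh := mul_mem h (inv_mem hr)
      have e : y * (v⁻¹ * g (g w))⁻¹ = g v * (g w)⁻¹ := by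
        rw [hy, mul_inv_rev]
        simp [mul_assoc, mul_left_comm, mul_comm]
      rw [e] at hh
      have : g v * (g w)⁻¹ ∈ V₁ ⊓ Q V₁ := mem_inf.2 ⟨mul_mem hgv (inv_mem hgw), hh⟩
      rw [hBQ V₁ h1, mem_bot, mul_inv_eq_one] at this
      exact g.injective this
    · have hr : v⁻¹ * g v * (g w)⁻¹ ∈ Q V₂ :=
        mul_mem (mul_mem (inv_mem (hQ V₂ h2 V hV (Ne.symm h02) hv)) (hQ V₂ h2 V₁ h1 (Ne.symm h12) hgv))
          (inv_mem (hQ V₂ h2 V₁ h1 (Ne.symm h12) hgw))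
      have hh := mul_mem (inv_mem hr) h
      rw [hy, ← mul_assoc (v⁻¹ * g v), inv_mul_cancel_left] at hh
      have : g (g w) ∈ V₂ ⊓ Q V₂ := ⟨hggw, hh⟩
      rw [hBQ V₂ h2, mem_bot, map_eq_one_iff _ g.injective, map_eq_one_iff _ g.injective] at this
      exact this
  obtain ⟨t, ht, hty⟩ := htrans _ (hgU v) _ hyU hx0 (fun h => hnQ.1 (h ▸ one_mem _))
  have hB := hT t ht V hV
  have hB1 := hT t ht V₁ h1
  have key : ∀ P ∈ blocks, P ≠ V.map t.toMonoidHom → P ≠ V₁.map t.toMonoidHom → y ∈ Q P := by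
    intro P hP hP0 hP1
    rw [← hty, map_mul, map_inv]
    exact mul_mem (inv_mem (hQ P hP _ hB hP0.symm (mem_map_of_mem _ hv)))
      (hQ P hP _ hB1 hP1.symm (mem_map_of_mem _ hgv))
  rcases eq_or_ne V (V.map t.toMonoidHom) with e0 | e0 <;>
    rcases eq_or_ne V (V₁.map t.toMonoidHom) with e1 | e1
  · exact hne (map_injective t.injective (e1.symm.trans e0))
  · rcases eq_or_ne V₁ (V₁.map t.toMonoidHom) with f1 | f1
    · exact hnQ.2.2 (key V₂ h2 (fun h => h02 (h.trans e0.symm)) (fun h => h12 (h.trans f1.symm)))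
    · exact hnQ.2.1 (key V₁ h1 (fun h => hne (h.trans e0.symm)) f1)
  · rcases eq_or_ne V₁ (V.map t.toMonoidHom) with f0 | f0
    · exact hnQ.2.2 (key V₂ h2 (fun h => h12 (h.trans f0.symm)) (fun h => h02 (h.trans e1.symm)))
    · exact hnQ.2.1 (key V₁ h1 f0 (fun h => hne (h.trans e1.symm)))
  · exact hnQ.1 (key V hV e0 e1)

end Blocks

end Cfsg.Agent.H88.Walter
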