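import Cfsg.Agent.H88.Walter.Conj

/-!
# A subgroup containing the covers, the core and `N(A)` contains the centraliser
-/

set_option autoImplicit false
set_option linter.unusedSectionVars false
set_option linter.unusedVariables false
set_option linter.style.haveILetI false

namespace Cfsg.Agent.H88.Walter

open Subgroup Cfsg.Agent
open Cfsg.Agent.H21.Walter (coreProj coreImage coreProj_eq_one_iff)

universe u

variable {G : Type u} [Group G] [Finite G]

local instance fact_two_f : Fact (Nat.Prime 2) := ⟨Nat.prime_two⟩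

theorem pre_bot (b : G) : pre b ⊥ = core b := by
  refine le_antisymm (fun x hx => ?_) (core_le_pre b ⊥)
  obtain ⟨hxb, hxK⟩ := mem_pre.1 hx
  exact (coreProj_eq_one_iff (x := ⟨x, hxb⟩)).1 (mem_bot.1 hxK)

theorem map_core (n c : G) :
    (core c).map (MulAut.conj n).toMonoidHom = core (n * c * n⁻¹) := by
  rw [← pre_bot, map_pre, Subgroup.map_bot, pre_bot]

namespace Ctx

variable {S : Sylow 2 G} {A : Subgroup G} (h : Ctx S A) (hd : ShapeData.{u})
include h hd

theorem cent_le {a : G} (ha : a ∈ A) (ha1 : a ≠ 1) {M : Subgroup G}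
    (hN : normalizer (A : Set G) ≤ M) (hc : core a ≤ M)
    (hK : ∀ K : Subgroup (Bb a), Cfsg.IsComponent K → hat A a K ≤ M) :
    centralizer ({a} : Set G) ≤ M := by
  set C := centralizer ({a} : Set G)
  set F := Cfsg.generalizedFittingSubgroup (Bb a)
  have hSM : (S : Subgroup G) ≤ M :=
    (h.S_le_centralizer.trans (centralizer_le_normalizer _)).trans hN
  have hF : F ≤ coreImage a M := by
    refine sup_le (sSup_le fun L hL => ?_) ?_
    · rw [← h.image_hat hd ha ha1 hL]
      exact map_mono (comap_mono (hK L hL))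
    · refine ((Components.fitting_le_pCore (p := 2) (h.oddCore_Bb ha)).trans
        (Cores.pCore_le_sylow (h.sylowBar ha))).trans ?_
      intro y hy
      obtain ⟨s, hs, hsS, rfl⟩ := (h.mem_sylowBar ha).1 hy
      exact coreImage_mem hs (hSM hsS)
  have hpre : ∀ x : ↥C, coreProj a x ∈ F → (x : G) ∈ M := fun x hx => by
    obtain ⟨y, hyc, hy, e⟩ := mem_coreImage.1 (hF hx)
    have hk : (x : G) * y⁻¹ ∈ core a := (coreProj_eq_one_iff (x := x * ⟨y, hyc⟩⁻¹)).1
      (by rw [map_mul, map_inv, e, mul_inv_cancel])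
    simpa using mul_mem (hc hk) hy
  set N := F.comap (coreProj a)
  have hSN : ((S.subtype (h.S_le_cent ha) : Sylow 2 ↥C) : Subgroup ↥C) ≤ N := fun x hx =>
    H10.Walter.sylow_le_genFitting (h.absyl_Bb ha) (h.oddCore_Bb ha) (h.sylowBar ha)
      ((h.mem_sylowBar ha).2 ⟨x, x.2, hx, rfl⟩)
  have htop := Sylow.normalizer_sup_eq_top' (S.subtype (h.S_le_cent ha)) (N := N) hSN
  intro g hg
  have hgm : (⟨g, hg⟩ : ↥C) ∈
      (⊤ : Subgroup ↥C) := mem_top _
  rw [← htop] at hgm
  have hle : normalizer (((S.subtype (h.S_le_cent ha) : Sylow 2 ↥C) : Subgroup ↥C) : Set ↥C) ⊔ N ≤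
      M.subgroupOf C := by
    refine sup_le (fun n hn => hN (h.normalizer_le ?_)) fun x hx => hpre x hx
    refine Coprime.mem_normalizer_of_map_conj (eq_of_le_of_card_ge ?_
      (by rw [Coprime.card_map_conj]))
    rintro _ ⟨s, hs, rfl⟩
    exact (mem_normalizer_iff.1 hn ⟨s, h.S_le_cent ha hs⟩).1 hs
  exact hle hgm

end Ctx

end Cfsg.Agent.H88.Walter
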