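import Cfsg.Agent.H88.Walter.Members
import Cfsg.Agent.H88.Walter.Frattini

/-!
# The cores are trivial

With trivial `Δ(E)`, `|E| = 8`: the normaliser of the covers of the members contains `N(A)` and
every `C(a)`, so there are no members, so no pieces, so all cores are equal, so trivial.
-/

set_option autoImplicit false
set_option linter.unusedSectionVars false
set_option linter.unusedVariables false
set_option linter.style.haveILetI false

namespace Cfsg.Agent.H88.Walter

open Subgroup Cfsg.Agent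
open Cfsg.Agent.H21.Walter (coreProj coreImage coreProj_eq_one_iff)
open scoped commutatorElement

universe u

variable {G : Type u} [Group G] [Finite G]

local instance fact_two_z : Fact (Nat.Prime 2) := ⟨Nat.prime_two⟩

theorem map_centralizer_conj (Q : Subgroup G) (n : G) :
    (centralizer (Q : Set G)).map (MulAut.conj n).toMonoidHom =
      centralizer ((Q.map (MulAut.conj n).toMonoidHom : Subgroup G) : Set G) :=
  map_centralizer_equiv (MulAut.conj n) Q

theorem lft_conj (Q : Subgroup G) (n : G) :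
    (lft Q).map (MulAut.conj n).toMonoidHom ≤ lft (Q.map (MulAut.conj n).toMonoidHom) :=
  perfPart_map_conj_le (map_centralizer_conj Q n).le

/-- An element fixing `Q` pointwise normalises the cover. -/
theorem lft_normalizer {Q : Subgroup G} {n : G} (hn : ∀ q ∈ Q, n * q * n⁻¹ = q) :
    n ∈ normalizer (lft Q : Set G) :=
  normalizer_le_perfPart _ (le_normalizer (mem_centralizer_iff.2 fun q hq => by
    nth_rewrite 1 [← hn q hq]; simp [mul_assoc]))

namespace Ctx

variable {S : Sylow 2 G} {A : Subgroup G} (h : Ctx S A) (hd : ShapeData.{u})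
include h hd

theorem member_meets_hyper {Q : Subgroup G} (hQ : h.Member Q) {H : Subgroup G} (hH : H ≤ A)
    (hi : Nat.card H * 2 = Nat.card A) : ∃ c ∈ Q, c ∈ H ∧ c ≠ 1 := by
  obtain ⟨-, hcard⟩ := h.mv_card hd hQ
  have := h.large
  by_contra! hall
  obtain ⟨q, hq, hq1⟩ := h.member_ne hd hQ
  obtain ⟨r, hr, hr1, hrq⟩ : ∃ r ∈ Q, r ≠ 1 ∧ r ≠ q := by
    by_contra! hc
    classical
    haveI := Fintype.ofFinite Q
    have h2 : (Finset.univ : Finset Q) ⊆ {1, ⟨q, hq⟩} := fun x _ => by
      simp only [Finset.mem_insert, Finset.mem_singleton]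
      by_cases hx1 : (x : G) = 1
      · exact Or.inl (Subtype.ext hx1)
      · exact Or.inr (Subtype.ext (hc x x.2 hx1))
    have h3 := (Finset.card_le_card h2).trans Finset.card_le_two
    rw [Finset.card_univ, ← Nat.card_eq_fintype_card] at h3
    omega
  have h1 := h.mul_mem_hyper hH hi (hQ.1 hq) (hQ.1 hr) (fun e => hq1 (hall q hq e))
    (fun e => hr1 (hall r hr e))
  have h2 := hall _ (Subgroup.mul_mem _ hq hr) h1
  exact hrq (by
    rw [← mul_right_inj q, h2, h.sq (hQ.1 hq)])

/-- An `N(A)`-invariant subgroup of `A` is in a member or contains its piece. -/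
theorem invariant_cases {Q : Subgroup G} (hQ : h.Member Q) {X : Subgroup G} (hX : X ≤ A)
    (hN : normalizer (A : Set G) ≤ normalizer (X : Set G)) : X ≤ Q ∨ mv A Q ≤ X := by
  by_cases hle : X ≤ Q
  · exact Or.inl hle
  refine Or.inr ?_
  obtain ⟨x, hx, hxQ⟩ := SetLike.not_le_iff_exists.1 hle
  obtain ⟨v, hv, q, hq, e⟩ := h.member_decomp hd hQ (hX hx)
  have hv1 : v ≠ 1 := fun e1 => hxQ (by rw [← e, e1, one_mul]; exact hq)
  have key : ∀ w ∈ mv A Q, w ≠ 1 → v * w ∈ X := fun w hw hw1 => by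
    obtain ⟨n, hn, hnq, hnv⟩ := h.member_trans hd hQ hv hw hv1 hw1
    have h1 := Coprime.conj_mem (hN hn) hx
    have h2 : n * x * n⁻¹ = w * q := by
      rw [← e, show n * (v * q) * n⁻¹ = n * v * n⁻¹ * (n * q * n⁻¹) by group, hnv, hnq q hq]
    rw [h2] at h1
    have h3 := Subgroup.mul_mem _ hx h1
    rw [← e] at h3
    rwa [show v * q * (w * q) = v * w by
      rw [show v * q * (w * q) = v * (q * w) * q by group,
        (h.comm (h.le_S (hQ.1 hq)) (h.le_S hw.1)).eq,
        show v * (w * q) * q = v * w * (q * q) by group, h.sq (hQ.1 hq), mul_one]] at h3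
  have hsq : v * v = 1 := h.sq hv.1
  obtain ⟨w, hw, hw1, hwv⟩ : ∃ w ∈ mv A Q, w ≠ 1 ∧ w ≠ v := by
    by_contra! hc
    classical
    haveI := Fintype.ofFinite (mv A Q)
    have h2 : (Finset.univ : Finset (mv A Q)) ⊆ {1, ⟨v, hv⟩} := fun x _ => by
      simp only [Finset.mem_insert, Finset.mem_singleton]
      by_cases hx1 : (x : G) = 1
      · exact Or.inl (Subtype.ext hx1)
      · exact Or.inr (Subtype.ext (hc x x.2 hx1))
    have h3 := (Finset.card_le_card h2).trans Finset.card_le_two
    rw [Finset.card_univ, ← Nat.card_eq_fintype_card, (h.mv_card hd hQ).1] at h3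
    omega
  have hvw : v * w ≠ 1 := fun e1 => hwv (by rw [← mul_right_inj v, e1, hsq])
  have hwX : w ∈ X := by
    have h1 := key (v * w) (Subgroup.mul_mem _ hv hw) hvw
    rwa [← mul_assoc, hsq, one_mul] at h1
  have hvX : v ∈ X := by
    have h1 := Subgroup.mul_mem _ (key w hw hw1) hwX
    rwa [mul_assoc, h.sq hw.1, mul_one] at h1
  intro u hu
  by_cases hu1 : u = 1
  · rw [hu1]; exact Subgroup.one_mem _
  have h1 := Subgroup.mul_mem _ hvX (key u hu hu1)
  rwa [← mul_assoc, hsq, one_mul] at h1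

variable (hΔ : DeltaHyp A) (hpair : PairHyp A)
include hΔ hpair

/-- The cores normalise the covers. -/
theorem core_le_norm {a : G} (ha : a ∈ A) {Q : Subgroup G} (hQ : h.Member Q) :
    core a ≤ normalizer (lft Q : Set G) := by
  refine h.core_le_of_pieces hd ha (fun u hu => ?_) fun x H s hp hx1 => ?_
  · obtain ⟨c, hc, hc1⟩ := h.member_ne hd hQ
    obtain ⟨v, hv, hv1⟩ := h.mv_exists_ne hd hQ
    exact h.norm_of_commute hd hΔ hpair hQ hc hc1 hv hv1
      (mem_centralizer_iff.1 hu.2 c (hQ.1 hc)).symm (mem_centralizer_iff.1 hu.2 v hv.1).symm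
  · obtain ⟨c, hc, hcH, hc1⟩ := h.member_meets_hyper hd hQ hp.le hp.index
    have hxc : x ∈ centralizer ({c} : Set G) :=
      centralizer_le (Set.singleton_subset_iff.2 hcH) hp.fix
    have hcA := hQ.1 hc
    refine h.norm_lft hd hΔ hpair hQ hc hc1 hxc fun K hK _ => ?_
    exact h.odd_fixes hd hcA hc1 (W := core a ⊓ centralizer ({c} : Set G))
      (odd_of_le (core_odd a) inf_le_left)
      (fun y hy => inf_normalizer_le_normalizer_inf
        ⟨core_normal a (h.S_le_cent ha hy), le_normalizer (h.S_le_cent hcA hy)⟩)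
      hK ⟨hp.mem, hxc⟩ hxc

/-- The covers normalise each other. -/
theorem hat_le_norm {a : G} (ha : a ∈ A) (ha1 : a ≠ 1) {K : Subgroup (Bb a)}
    (hK : Cfsg.IsComponent K) {Q : Subgroup G} (hQ : h.Member Q) :
    hat A a K ≤ normalizer (lft Q : Set G) := by
  by_cases hc : ∃ c ∈ qp A a K, c ∈ Q ∧ c ≠ 1
  · obtain ⟨c, hcK, hc, hc1⟩ := hc
    have hle : hat A a K ≤ centralizer ({c} : Set G) :=
      (hat_le_cent A a K).trans (centralizer_le (Set.singleton_subset_iff.2 hcK))
    intro g hg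
    exact h.norm_lft hd hΔ hpair hQ hc hc1 (hle hg) fun K' hK' _ =>
      h.perfect_fixes hd (hQ.1 hc) hK' (perfPart_perfect _) hle hg
  push Not at hc
  obtain ⟨hV4, hQcard⟩ := h.mv_card hd hQ
  have hcard := h.card_mul hd ha ha1 hK
  have hdis : qp A a K ⊓ Q = ⊥ := (eq_bot_iff_forall _).2 fun x hx => hc x hx.1 hx.2
  have hq4 : Nat.card (qp A a K) ≤ 4 := by
    have hn : Q ≤ normalizer (qp A a K : Set G) := fun x hx => centralizer_le_normalizer _
      (mem_centralizer_iff.2 fun y hy => (h.comm (h.le_S hy.1) (h.le_S (hQ.1 hx))).eq)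
    have h1 := Coprime.card_sup hn hdis
    have h2 := card_le_of_le (sup_le inf_le_left hQ.1 : qp A a K ⊔ Q ≤ A)
    rw [h1] at h2
    have h3 : 0 < Nat.card Q := Nat.card_pos
    nlinarith
  have hv4 := h.four_le_vp hd ha ha1 hK
  obtain ⟨hq, hNv, hNq⟩ := hpair a ha ha1 K hK hq4 (hq4.trans hv4)
  have hdisV := h.vp_inf_qp hd ha hK
  have hqV : qp A a K = mv A Q := by
    rcases h.invariant_cases hd hQ (X := qp A a K) inf_le_left hNq with e | e
    · exfalso
      have hb := h.self_mem_qp hd ha ha1 hK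
      exact ha1 (hc a hb (e hb))
    · exact (eq_of_le_of_card_ge e (by rw [hq, hV4])).symm
  have hvQ : vp A a K = Q := by
    rcases h.invariant_cases hd hQ (X := vp A a K) inf_le_left hNv with e | e
    · refine eq_of_le_of_card_ge e ?_
      rw [hq] at hcard
      omega
    · exfalso
      obtain ⟨v, hv, hv1⟩ := h.mv_exists_ne hd hQ
      have h1 : v ∈ vp A a K ⊓ qp A a K := ⟨e hv, hqV ▸ hv⟩
      rw [hdisV, mem_bot] at h1
      exact hv1 h1
  have haV : a ∈ mv A Q := hqV ▸ h.self_mem_qp hd ha ha1 hK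
  have hVc : vp A a K ≤ centralizer (core a : Set G) :=
    hvQ.le.trans (h.member_cent_core hd hΔ hpair hQ haV)
  obtain ⟨q, hqQ, hq1⟩ := h.member_ne hd hQ
  have hmvc : mv A Q ≤ centralizer (hat A a K : Set G) := by
    rw [le_centralizer_iff, ← hqV]
    exact hat_le_cent A a K
  suffices hh : lft Q ≤ centralizer (hat A a K : Set G) from
    (le_centralizer_iff.1 hh).trans (centralizer_le_normalizer _)
  refine h.lft_le_of_gen hd hΔ hpair hQ hmvc fun u hu => ?_
  obtain ⟨hu0, hodd, v, hv, hv1, huv, s, hs, hinv⟩ := hu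
  obtain ⟨n, hn, hnq, hnv⟩ := h.member_trans hd hQ hv haV hv1 ha1
  have hnL : n ∈ normalizer (lft Q : Set G) := lft_normalizer hnq
  have hnhat : n ∈ normalizer (hat A a K : Set G) := by
    refine normalizer_le_perfPart _ (Coprime.mem_normalizer_of_map_conj ?_)
    rw [map_centralizer_conj, Coprime.map_conj_eq (show n ∈ normalizer (qp A a K : Set G) from hNq hn)]
  set u' := n * u * n⁻¹
  have hu'a : Commute u' a := by
    rw [← hnv]
    exact huv.map (MulAut.conj n).toMonoidHom
  have hu'q : Commute u' q :=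
    (mem_centralizer_iff.1 (h.lft_le_cent hd Q (Coprime.conj_mem hnL hu0)) q hqQ).symm
  have hu'N : u' ∈ normalizer (hat A a K : Set G) :=
    h.norm_hat hd ha ha1 hK hVc (mem_centralizer_singleton_iff.2 hu'a.eq)
      (h.fixes_of_commute hd ha hK _ (hvQ.symm ▸ hqQ) hq1 hu'q)
  have hs' : n * s * n⁻¹ ∈ mv A Q := ⟨Coprime.conj_mem hn hs.1, Coprime.conj_mem hnL hs.2⟩
  have hu'c : u' ∈ centralizer (hat A a K : Set G) := by
    refine commute_of_inverted ?_ hu'N (hmvc hs') ?_
    · show Odd (orderOf ((MulAut.conj n) u))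
      rwa [MulEquiv.orderOf_eq]
    · show n * s * n⁻¹ * (n * u * n⁻¹) * (n * s * n⁻¹)⁻¹ = (n * u * n⁻¹)⁻¹
      rw [show n * s * n⁻¹ * (n * u * n⁻¹) * (n * s * n⁻¹)⁻¹ = n * (s * u * s⁻¹) * n⁻¹ by group,
        hinv]
      group
  refine mem_centralizer_iff.2 fun y hy => ?_
  have h1 := mem_centralizer_iff.1 hu'c _ (Coprime.conj_mem hnhat hy)
  have h2 := congrArg (fun w => n⁻¹ * w * n) h1
  simpa [u', mul_assoc] using h2

set_option maxHeartbeats 1000000 in
/-- There is no member. -/
theorem no_member {Q0 : Subgroup G} (hQ0 : h.Member Q0) : False := by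
  set LL := ⨆ Q : {Q : Subgroup G // h.Member Q}, lft (Q : Subgroup G)
  set M := normalizer (LL : Set G)
  haveI := h.cfg.simple
  obtain ⟨v0, hv0, hv01⟩ := h.mv_exists_ne hd hQ0
  have hLL : LL ≠ ⊥ := fun e => hv01 (mem_bot.1 (by
    rw [← e]
    exact mem_iSup_of_mem (S := fun Q : {Q : Subgroup G // h.Member Q} => lft (Q : Subgroup G))
      ⟨Q0, hQ0⟩ hv0.2))
  have htop : LL ≠ ⊤ := by
    intro e
    have hn : LL ≤ normalizer (lft Q0 : Set G) := iSup_le fun Q => by
      by_cases e' : (Q : Subgroup G) = Q0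
      · rw [e']; exact le_normalizer
      · exact (h.lft_commute hd hΔ hpair hQ0 Q.2 e').trans (centralizer_le_normalizer _)
    rw [e, top_le_iff, normalizer_eq_top_iff] at hn
    obtain ⟨c, hc, hc1⟩ := h.member_ne hd hQ0
    rcases hn.eq_bot_or_eq_top with e1 | e1
    · exact hv01 (mem_bot.1 (by rw [← e1]; exact hv0.2))
    · obtain ⟨K, -, -, -, -, -, hle⟩ := h.member_comp hd hQ0 hc hc1
      rw [e1, top_le_iff] at hle
      exact h.cfg.centralizer_ne_top hc1 hle
  have hM : M ≠ ⊤ := fun e => by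
    rcases (normalizer_eq_top_iff.1 e).eq_bot_or_eq_top with e1 | e1
    exacts [hLL e1, htop e1]
  have hNA : normalizer (A : Set G) ≤ M := fun n hn => by
    refine Coprime.mem_normalizer_of_map_conj (eq_of_le_of_card_ge ?_
      (by rw [Coprime.card_map_conj]))
    rw [Subgroup.map_iSup]
    exact iSup_le fun Q => (lft_conj _ n).trans
      (le_iSup_of_le ⟨_, h.member_conj hd Q.2 hn⟩ le_rfl)
  have hall : ∀ X : Subgroup G, (∀ Q, h.Member Q → X ≤ normalizer (lft Q : Set G)) → X ≤ M :=
    fun X hX => H47.normalizer_iSup fun Q => hX Q.1 Q.2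
  exact hM (h.eq_top hNA fun a ha ha1 => h.cent_le hd ha ha1 hNA
    (hall _ fun Q hQ => h.core_le_norm hd hΔ hpair ha hQ)
    fun K hK => hall _ fun Q hQ => h.hat_le_norm hd hΔ hpair ha ha1 hK hQ)

theorem core_le_centralizer {a : G} (ha : a ∈ A) : core a ≤ centralizer (A : Set G) :=
  h.core_le_of_pieces hd ha inf_le_right fun x H s hp hx1 => by
    obtain ⟨Q, hQ, -, -⟩ := h.exists_member hd hΔ hp ha hx1
    exact (h.no_member hd hΔ hpair hQ).elim

theorem core_le_core {a b : G} (ha : a ∈ A) (hb : b ∈ A) (hb1 : b ≠ 1) : core a ≤ core b := by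
  have hA := h.core_le_centralizer hd hΔ hpair ha
  have hn : centralizer ({a} : Set G) ⊓ centralizer ({b} : Set G) ≤ normalizer (core a : Set G) :=
    inf_le_left.trans (core_normal a)
  exact h.le_core_of_cent hd hb hb1 (core_odd a)
    (fun y hy => hn ⟨h.S_le_cent ha hy, h.S_le_cent hb hy⟩)
    (hA.trans (centralizer_le (Set.singleton_subset_iff.2 hb)))
    fun K hK => h.le_cent_fix hd hb hb1 hK ha (core_odd a) hA hn

/-- The cores of the involution centralisers are trivial. -/
theorem coresTrivial : H10.Walter.CoresTrivial G := by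
  haveI := h.cfg.simple
  obtain ⟨a0, ha0, ha01⟩ := h.exists_ne_one
  set J := core a0
  have heq : ∀ a ∈ A, a ≠ 1 → core a = J := fun a ha ha1 =>
    le_antisymm (h.core_le_core hd hΔ hpair ha ha0 ha01) (h.core_le_core hd hΔ hpair ha0 ha ha1)
  have hJ : J = ⊥ := by
    by_contra hne
    have hM : normalizer (J : Set G) ≠ ⊤ := fun e => by
      rcases (normalizer_eq_top_iff.1 e).eq_bot_or_eq_top with e1 | e1
      · exact hne e1
      · exact h.cfg.centralizer_ne_top ha01 (top_le_iff.1 (e1 ▸ core_le a0))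
    have hNA : normalizer (A : Set G) ≤ normalizer (J : Set G) := fun n hn => by
      refine Coprime.mem_normalizer_of_map_conj ?_
      rw [map_core]
      exact heq _ ((mem_normalizer_iff.1 hn a0).1 ha0) (fun e => ha01 (_root_.conj_eq_one_iff.1 e))
    exact hM (h.eq_top hNA fun a ha ha1 => heq a ha ha1 ▸ core_normal a)
  intro t ht
  obtain ⟨g, hg⟩ := h.exists_conj ht
  have hg1 : g * t * g⁻¹ ≠ 1 := fun e => by
    rw [_root_.conj_eq_one_iff.1 e, orderOf_one] at ht
    omega
  have h1 : (core t).map (MulAut.conj g).toMonoidHom = ⊥ := by rw [map_core, heq _ hg hg1, hJ]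
  rw [map_eq_bot_iff_of_injective _ (MulAut.conj g).injective] at h1
  exact (map_eq_bot_iff_of_injective _ (subtype_injective _)).1 h1

end Ctx

end Cfsg.Agent.H88.Walter
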