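import Cfsg.Agent.H88.Walter.Act
import Cfsg.Agent.H88.Walter.Perfect

/-!
# The cover of a component

`hat A b K` is the largest perfect subgroup of `C(qp A b K)`; it maps onto `K` and is normalised by
the elements of `C(b)` fixing `K` as soon as `vp` centralises the core.
-/

set_option autoImplicit false
set_option linter.unusedSectionVars false
set_option linter.unusedVariables false
set_option linter.style.haveILetI false

namespace Cfsg.Agent.H88.Walter

open Subgroup Cfsg.Agent
open Cfsg.Agent.H21.Walter (coreProj coreImage coreProj_eq_one_iff)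
open scoped commutatorElement

universe u

variable {G : Type u} [Group G] [Finite G]

local instance fact_two'' : Fact (Nat.Prime 2) := ⟨Nat.prime_two⟩

/-- The cover of `K` centralising `qp`. -/
def hat (A : Subgroup G) (b : G) (K : Subgroup (Bb b)) : Subgroup G :=
  perfPart (centralizer (qp A b K : Set G))

theorem hat_le_cent (A : Subgroup G) (b : G) (K : Subgroup (Bb b)) :
    hat A b K ≤ centralizer (qp A b K : Set G) :=
  perfPart_le _

theorem perfect_coreImage {b : G} {Z : Subgroup G} (hp : ⁅Z, Z⁆ = Z)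
    (hle : Z ≤ centralizer ({b} : Set G)) : ⁅coreImage b Z, coreImage b Z⁆ = coreImage b Z := by
  have h1 : ⁅Z.subgroupOf (centralizer ({b} : Set G)), Z.subgroupOf (centralizer ({b} : Set G))⁆ =
      Z.subgroupOf (centralizer ({b} : Set G)) :=
    map_injective (centralizer ({b} : Set G)).subtype_injective (by
      rw [map_commutator, Components.map_subgroupOf hle, hp])
  rw [coreImage, ← map_commutator, h1]

theorem mem_coreImage {b : G} {H : Subgroup G} {y : Bb b} :
    y ∈ coreImage b H ↔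
      ∃ (x : G) (hx : x ∈ centralizer ({b} : Set G)), x ∈ H ∧ coreProj b ⟨x, hx⟩ = y :=
  ⟨fun ⟨⟨x, hx⟩, hm, e⟩ => ⟨x, hx, hm, e⟩, fun ⟨x, hx, hm, e⟩ => ⟨⟨x, hx⟩, hm, e⟩⟩

namespace Ctx

variable {S : Sylow 2 G} {A : Subgroup G} (h : Ctx S A) (hd : ShapeData.{u}) {b : G}
include h hd

theorem hat_le (hb : b ∈ A) (hb1 : b ≠ 1) {K : Subgroup (Bb b)} (hK : Cfsg.IsComponent K) :
    hat A b K ≤ centralizer ({b} : Set G) :=
  (hat_le_cent A b K).trans
    (centralizer_le (Set.singleton_subset_iff.2 (h.self_mem_qp hd hb hb1 hK)))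

theorem perfect_le_genFitting (hb : b ∈ A) {Z : Subgroup (Bb b)} (hp : ⁅Z, Z⁆ = Z) :
    Z ≤ Cfsg.generalizedFittingSubgroup (Bb b) := by
  set F := Cfsg.generalizedFittingSubgroup (Bb b)
  have hodd : Odd F.index :=
    H10.Walter.odd_index_genFitting (h.absyl_Bb hb) (h.oddCore_Bb hb)
  rw [index_eq_card] at hodd
  have h1 : Z.map (QuotientGroup.mk' F) = ⊥ := perfect_odd_eq_bot
    (by rw [← map_commutator, hp]) (hodd.of_dvd_nat (card_subgroup_dvd_card _))
  rwa [Subgroup.map_eq_bot_iff, QuotientGroup.ker_mk'] at h1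

theorem genFitting_le (hb : b ∈ A) {K : Subgroup (Bb b)} (hK : Cfsg.IsComponent K) :
    Cfsg.generalizedFittingSubgroup (Bb b) ≤ K ⊔ centralizer (K : Set (Bb b)) := by
  refine sup_le (sSup_le fun L hL => ?_) (le_sup_of_le_right
    (le_centralizer_iff.1 (commutator_eq_bot_iff_le_centralizer.1
      (Components.component_commutator_fitting hK))))
  by_cases e : L = K
  · exact e ▸ le_sup_left
  · exact le_sup_of_le_right (commutator_eq_bot_iff_le_centralizer.1
      (Components.components_commute hL hK e))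

theorem sup_cent_le_normalizer (K : Subgroup (Bb b)) :
    K ⊔ centralizer (K : Set (Bb b)) ≤ normalizer (K : Set (Bb b)) :=
  sup_le le_normalizer (centralizer_le_normalizer _)

/-- A perfect subgroup of `C(b)` fixes every component. -/
theorem perfect_fixes (hb : b ∈ A) {K : Subgroup (Bb b)} (hK : Cfsg.IsComponent K) {Z : Subgroup G}
    (hp : ⁅Z, Z⁆ = Z) (hle : Z ≤ centralizer ({b} : Set G)) {z : G} (hz : z ∈ Z) :
    coreProj b ⟨z, hle hz⟩ ∈ normalizer (K : Set (Bb b)) :=
  h.sup_cent_le_normalizer hd K (h.genFitting_le hd hb hK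
    (h.perfect_le_genFitting hd hb (perfect_coreImage hp hle) (coreImage_mem (hle hz) hz)))

/-- The involutions centralising the image of `A` lie in it. -/
theorem mem_image_of_sq (hb : b ∈ A) {z : Bb b} (h2 : z * z = 1)
    (hc : z ∈ centralizer (coreImage b A : Set (Bb b))) : z ∈ coreImage b A := by
  set AA := coreImage b A
  have homega : ∀ y ∈ (h.sylowBar hb : Subgroup (Bb b)), y * y = 1 → y ∈ AA := by
    intro y hy hy2
    obtain ⟨s, hs, hsS, e⟩ := (h.mem_sylowBar hb).1 hy
    have hmem : s * s ∈ core b := (coreProj_eq_one_iff (x := ⟨s, hs⟩ * ⟨s, hs⟩)).1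
      (by rw [map_mul, e, hy2])
    obtain ⟨k, hk⟩ := S.isPGroup' ⟨s * s, mul_mem hsS hsS⟩
    have h1 : s * s = 1 := orderOf_eq_one_iff.1 (Nat.eq_one_of_dvd_coprimes
      (Nat.Coprime.pow_left k (Nat.coprime_two_left.2 (core_odd b)))
      (orderOf_dvd_of_pow_eq_one (show (s * s) ^ 2 ^ k = 1 by
        simpa using congrArg Subtype.val hk))
      (orderOf_dvd_natCard _ hmem))
    exact e ▸ coreImage_mem hs ((h.mem_iff s).2 ⟨hsS, h1⟩)
  have hsq : ∀ x ∈ AA, x * x = 1 := by
    rintro x hx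
    obtain ⟨a, hab, ha, rfl⟩ := mem_coreImage.1 hx
    rw [← map_mul, show (⟨a, hab⟩ * ⟨a, hab⟩ : ↥(centralizer ({b} : Set G))) = 1 from
      Subtype.ext (h.sq ha), map_one]
  set P := AA ⊔ zpowers z
  have hzN : zpowers z ≤ normalizer (AA : Set (Bb b)) :=
    zpowers_le.2 (centralizer_le_normalizer _ hc)
  have hz2 : ∀ y ∈ zpowers z, y * y = 1 := fun y hy => by
    obtain ⟨i, rfl⟩ := mem_zpowers_iff.1 hy
    rw [← (Commute.refl z).mul_zpow, h2, one_zpow]
  have hPsq : ∀ x ∈ P, x * x = 1 := fun x hx => by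
    obtain ⟨a, ha, y, hy, rfl⟩ := (Coprime.mem_sup_iff hzN).1 hx
    have hya : y * a = a * y := (mem_centralizer_iff.1 (show y ∈ centralizer (AA : Set (Bb b)) from
      zpowers_le.2 hc hy) a ha).symm
    calc a * y * (a * y) = a * (y * a) * y := by group
      _ = (a * a) * (y * y) := by rw [hya]; group
      _ = 1 := by rw [hsq a ha, hz2 y hy, one_mul]
  have hPp : IsPGroup 2 P := fun x => ⟨1, Subtype.ext (by simpa [pow_two] using hPsq x x.2)⟩
  obtain ⟨g, hg⟩ := H39.exists_conj_le_sylow hPp (h.sylowBar hb)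
  have himg : AA.map (MulAut.conj g).toMonoidHom = AA := eq_of_le_of_card_ge (by
    rintro _ ⟨a, ha, rfl⟩
    refine homega _ (hg a (mem_sup_left ha)) ?_
    show g * a * g⁻¹ * (g * a * g⁻¹) = 1
    rw [show g * a * g⁻¹ * (g * a * g⁻¹) = g * (a * a) * g⁻¹ by group, hsq a ha, mul_one,
      mul_inv_cancel]) (by rw [Coprime.card_map_conj])
  have hzg : g * z * g⁻¹ ∈ AA := homega _ (hg z (mem_sup_right (mem_zpowers z))) (by
    rw [show g * z * g⁻¹ * (g * z * g⁻¹) = g * (z * z) * g⁻¹ by group, h2, mul_one, mul_inv_cancel])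
  rw [← himg] at hzg
  obtain ⟨a, ha, e⟩ := hzg
  rwa [← (MulAut.conj g).injective (show MulAut.conj g a = MulAut.conj g z from e)]

/-- The image of the cover is the component. -/
theorem image_hat (hb : b ∈ A) (hb1 : b ≠ 1) {K : Subgroup (Bb b)} (hK : Cfsg.IsComponent K) :
    coreImage b (hat A b K) = K := by
  have hQle : qp A b K ≤ centralizer ({b} : Set G) := inf_le_left.trans (h.le_cent hb)
  have hKQ : K ≤ centralizer (coreImage b (qp A b K) : Set (Bb b)) := fun k hk => by
    refine mem_centralizer_iff.2 fun y hy => ?_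
    obtain ⟨q, hqb, hq, rfl⟩ := mem_coreImage.1 hy
    obtain ⟨_, hc⟩ := mem_pre.1 hq.2
    exact (mem_centralizer_iff.1 hc k hk).symm
  refine le_antisymm ?_ ?_
  · set Y := coreImage b (hat A b K)
    have hYp : ⁅Y, Y⁆ = Y := perfect_coreImage (perfPart_perfect _) (h.hat_le hd hb hb1 hK)
    have hYQ : Y ≤ centralizer (coreImage b (qp A b K) : Set (Bb b)) := fun y hy => by
      obtain ⟨x, hxb, hx, rfl⟩ := mem_coreImage.1 hy
      refine mem_centralizer_iff.2 fun z hz => ?_
      obtain ⟨q, hqb, hq, rfl⟩ := mem_coreImage.1 hz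
      rw [← map_mul, ← map_mul]
      exact congrArg _ (Subtype.ext (mem_centralizer_iff.1 (hat_le_cent A b K hx) q hq))
    set R := centralizer (coreImage b (qp A b K) : Set (Bb b)) ⊓ centralizer (K : Set (Bb b))
    have hRN : R ≤ normalizer (K : Set (Bb b)) :=
      inf_le_right.trans (centralizer_le_normalizer _)
    refine le_of_le_sup hYp hRN (fun y hy => ?_) fun Z hZR hZp => ?_
    · obtain ⟨k, hk, c, hc, rfl⟩ := (Coprime.mem_sup_iff (centralizer_le_normalizer _)).1
        (h.genFitting_le hd hb hK (h.perfect_le_genFitting hd hb hYp hy))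
      refine mul_mem_sup hk ⟨?_, hc⟩
      have := Subgroup.mul_mem _ (Subgroup.inv_mem _ (hKQ hk)) (hYQ hy)
      rwa [inv_mul_cancel_left] at this
    · have hZA : Z ≤ centralizer (coreImage b A : Set (Bb b)) := fun z hz =>
        mem_centralizer_iff.2 fun y hy => by
          obtain ⟨a, hab, ha, rfl⟩ := mem_coreImage.1 hy
          obtain ⟨v, hv, q, hq, e⟩ := h.exists_decomp hd hb hb1 hK ha
          have h1 : Commute (coreProj b ⟨v, h.le_cent hb hv.1⟩) z :=
            mem_centralizer_iff.1 (hZR hz).2 _ (h.image_vp_mem hd hb hv).2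
          have h2 : Commute (coreProj b ⟨q, h.le_cent hb hq.1⟩) z :=
            mem_centralizer_iff.1 (hZR hz).1 _ (coreImage_mem _ hq)
          rw [show (⟨a, hab⟩ : ↥(centralizer ({b} : Set G))) =
            ⟨v, h.le_cent hb hv.1⟩ * ⟨q, h.le_cent hb hq.1⟩ from Subtype.ext e.symm, map_mul]
          exact (h1.mul_left h2).eq
      refine perfect_eq_bot_of_central hZp ((h.absyl_Bb hb).subgroup Z) fun z hz hz2 y hy => ?_
      exact mem_centralizer_iff.1 (hZA hy) z (h.mem_image_of_sq hd hb hz2 (hZA hz))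
  · have hlift : K ≤ ((centralizer (qp A b K : Set G)).subgroupOf
        (centralizer ({b} : Set G))).map (coreProj b) := by
      refine hKQ.trans ?_
      have hp : IsPGroup 2 ↥((qp A b K).subgroupOf (centralizer ({b} : Set G))) :=
        (h.isPGroup.to_le (inf_le_left : qp A b K ≤ A)).comap_subtype
      rw [coreImage, coreProj, ← Cores.map_centralizer_of_coprime _ Cores.coprime_card_pPrimeCore hp]
      refine map_mono fun x hx => ?_
      show (x : G) ∈ centralizer (qp A b K : Set G)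
      exact mem_centralizer_iff.2 fun q hq =>
        congrArg Subtype.val (mem_centralizer_iff.1 hx ⟨q, hQle hq⟩ hq)
    refine (le_map_perfPart _ (Components.component_perfect hK) hlift).trans (map_mono ?_)
    refine map_le_iff_le_comap.1 ?_
    refine le_perfPart ?_ (by rw [← map_commutator, perfPart_perfect])
    exact (map_mono (perfPart_le _)).trans (by rw [subgroupOf_map_subtype]; exact inf_le_left)

/-- The preimage of a component. -/
theorem pre_eq (hb : b ∈ A) (hb1 : b ≠ 1) {K : Subgroup (Bb b)} (hK : Cfsg.IsComponent K) :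
    pre b K = core b ⊔ hat A b K := by
  refine le_antisymm (fun x hx => ?_) (sup_le (core_le_pre b K) fun y hy => ?_)
  · obtain ⟨hxb, hxK⟩ := mem_pre.1 hx
    rw [← h.image_hat hd hb hb1 hK] at hxK
    obtain ⟨y, hyb, hy, e⟩ := mem_coreImage.1 hxK
    have hm : x * y⁻¹ ∈ core b := (coreProj_eq_one_iff (x := ⟨x, hxb⟩ * ⟨y, hyb⟩⁻¹)).1
      (by rw [map_mul, map_inv, e, mul_inv_cancel])
    have := mul_mem_sup hm hy
    rwa [inv_mul_cancel_right] at this
  · exact mem_pre.2 ⟨h.hat_le hd hb hb1 hK hy, by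
      have := coreImage_mem (h.hat_le hd hb hb1 hK hy) hy
      rwa [h.image_hat hd hb hb1 hK] at this⟩

theorem mem_cent_qp {x : G} (hx : x ∈ (S : Subgroup G)) {K : Subgroup (Bb b)} :
    x ∈ centralizer (qp A b K : Set G) :=
  mem_centralizer_iff.2 fun q hq => (h.comm (h.le_S hq.1) hx).eq

/-- The part of `A` in the component lies in the cover. -/
theorem vp_le_hat (hb : b ∈ A) (hb1 : b ≠ 1) {K : Subgroup (Bb b)} (hK : Cfsg.IsComponent K) :
    vp A b K ≤ hat A b K := by
  intro v hv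
  obtain ⟨hvb, hvK⟩ := mem_pre.1 hv.2
  have hm := hvK
  rw [← h.image_hat hd hb hb1 hK] at hm
  obtain ⟨y, hyb, hy, e⟩ := mem_coreImage.1 hm
  set M := hat A b K ⊔ zpowers v
  have hvn : zpowers v ≤ normalizer (hat A b K : Set G) := zpowers_le.2
    (normalizer_le_perfPart _ (le_normalizer (h.mem_cent_qp hd (h.le_S hv.1))))
  -- a Sylow 2-subgroup of the cover, enlarged by `v`
  have hk : y⁻¹ * v ∈ core b := (coreProj_eq_one_iff (x := ⟨y, hyb⟩⁻¹ * ⟨v, hvb⟩)).1
    (by rw [map_mul, map_inv, e, inv_mul_cancel])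
  have hmem : y⁻¹ * v ∈ M ⊓ core b :=
    ⟨mul_mem_sup (Subgroup.inv_mem _ hy) (mem_zpowers v), hk⟩
  by_contra hvh
  -- otherwise `y⁻¹ v` has even order
  have hodd : Odd (orderOf (y⁻¹ * v)) := odd_of_mem (core_odd b) hk
  obtain ⟨j, hj⟩ := hodd
  have h1 : (y⁻¹ * v) ^ 2 ∈ hat A b K := by
    rw [pow_two]
    have hc : v * y⁻¹ * v⁻¹ ∈ hat A b K :=
      Coprime.conj_mem (hvn (mem_zpowers v)) (Subgroup.inv_mem _ hy)
    have := Subgroup.mul_mem _ (Subgroup.inv_mem _ hy) hc
    rwa [show y⁻¹ * (v * y⁻¹ * v⁻¹) = y⁻¹ * v * (y⁻¹ * v) by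
      rw [h.inv_eq hv.1]; group] at this
  have h2 : y⁻¹ * v ∈ hat A b K := by
    have e2 : ((y⁻¹ * v) ^ 2) ^ (j + 1) = y⁻¹ * v := by
      rw [← pow_mul, show 2 * (j + 1) = (2 * j + 1) + 1 by ring, pow_succ, ← hj, pow_orderOf_eq_one,
        one_mul]
    exact e2 ▸ Subgroup.pow_mem _ h1 _
  exact hvh (by simpa using Subgroup.mul_mem _ hy h2)

theorem hat_inf (hb : b ∈ A) (hb1 : b ≠ 1) {K : Subgroup (Bb b)} (hK : Cfsg.IsComponent K) :
    A ⊓ hat A b K = vp A b K :=
  le_antisymm (inf_le_inf le_rfl (by rw [h.pre_eq hd hb hb1 hK]; exact le_sup_right))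
    (le_inf inf_le_left (h.vp_le_hat hd hb hb1 hK))

theorem cent_qp_le_normalizer (K : Subgroup (Bb b)) :
    centralizer (qp A b K : Set G) ≤ normalizer (hat A b K : Set G) :=
  le_normalizer.trans (normalizer_le_perfPart _)

theorem vp_ne_bot (hb : b ∈ A) (hb1 : b ≠ 1) {K : Subgroup (Bb b)} (hK : Cfsg.IsComponent K) :
    ∃ v ∈ vp A b K, v ≠ 1 := by
  by_contra! hc
  have := h.four_le_vp hd hb hb1 hK
  rw [(eq_bot_iff_forall (vp A b K)).2 hc, Subgroup.card_bot] at this
  omega

/-- If `vp` centralises the core then so does the cover. -/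
theorem hat_cent_core (hb : b ∈ A) (hb1 : b ≠ 1) {K : Subgroup (Bb b)} (hK : Cfsg.IsComponent K)
    (hV : vp A b K ≤ centralizer (core b : Set G)) : ⁅hat A b K, core b⁆ = ⊥ := by
  rw [commutator_eq_bot_iff_le_centralizer]
  set M := hat A b K
  set N := M ⊓ centralizer (core b : Set G)
  have hMb := h.hat_le hd hb hb1 hK
  have hMn : M ≤ normalizer (N : Set G) := by
    refine (le_inf le_normalizer ?_).trans inf_normalizer_le_normalizer_inf
    intro m hm
    refine Coprime.mem_normalizer_of_map_conj (eq_of_le_of_card_ge ?_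
      (by rw [Coprime.card_map_conj]))
    rintro _ ⟨c, hc, rfl⟩
    refine mem_centralizer_iff.2 fun o ho => ?_
    have hh := mem_centralizer_iff.1 hc _ (Coprime.conj_mem' (core_normal b (hMb hm)) ho)
    show o * (m * c * m⁻¹) = m * c * m⁻¹ * o
    calc o * (m * c * m⁻¹) = m * (m⁻¹ * o * m * c) * m⁻¹ := by group
      _ = m * (c * (m⁻¹ * o * m)) * m⁻¹ := by rw [hh]
      _ = m * c * m⁻¹ * o := by group
  -- the image of `N` is the component
  obtain ⟨v, hv, hv1⟩ := h.vp_ne_bot hd hb hb1 hK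
  have hNM : coreImage b N ≤ K :=
    le_of_le_of_eq (map_mono (comap_mono inf_le_left)) (h.image_hat hd hb hb1 hK)
  have hnor : ((coreImage b N).subgroupOf K).Normal := by
    refine normal_subgroupOf_of_le_normalizer fun k hk => ?_
    rw [← h.image_hat hd hb hb1 hK] at hk
    obtain ⟨m, hmb, hm, rfl⟩ := mem_coreImage.1 hk
    exact le_normalizer_map _ (mem_map_of_mem _ (show (⟨m, hmb⟩ : ↥(centralizer ({b} : Set G))) ∈
      normalizer ((N.subgroupOf (centralizer ({b} : Set G)) : Subgroup _) : Set _) from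
        mem_normalizer_iff.2 fun z => mem_normalizer_iff.1 (hMn hm) z))
  have hKN : K ≤ coreImage b N := by
    have := (h.cfg.component_simple_bar _ hK).1
    refine subgroupOf_eq_top.1 ((hnor.eq_bot_or_eq_top).resolve_left fun e => hv1 ?_)
    have hm := coreImage_mem (h.le_cent hb hv.1)
      (show v ∈ N from ⟨h.vp_le_hat hd hb hb1 hK hv, hV hv⟩)
    have hm' : (⟨_, (h.image_vp_mem hd hb hv).2⟩ : K) ∈ (coreImage b N).subgroupOf K := hm
    rw [e, mem_bot] at hm'
    exact h.proj_injOn (hy := one_mem _) hv.1 (one_mem A)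
      ((congrArg Subtype.val hm').trans (map_one (coreProj b)).symm)
  -- so the cover is `N` times an odd group
  have hM : M ≤ N ⊔ (core b ⊓ M) := fun m hm => by
    have := coreImage_mem (hMb hm) hm
    rw [h.image_hat hd hb hb1 hK] at this
    obtain ⟨n, hnb, hn, e⟩ := mem_coreImage.1 (hKN this)
    have hk : n⁻¹ * m ∈ core b := (coreProj_eq_one_iff (x := ⟨n, hnb⟩⁻¹ * ⟨m, hMb hm⟩)).1
      (by rw [map_mul, map_inv, e, inv_mul_cancel])
    have := mul_mem_sup hn (show n⁻¹ * m ∈ core b ⊓ M from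
      ⟨hk, Subgroup.mul_mem _ (Subgroup.inv_mem _ hn.1) hm⟩)
    rwa [mul_inv_cancel_left] at this
  exact (le_of_le_sup (perfPart_perfect _) (inf_le_right.trans hMn) hM fun Z hZ hZp =>
    perfect_odd_eq_bot hZp (odd_of_le (core_odd b) (hZ.trans inf_le_left))).trans inf_le_right

/-- The elements of `C(b)` fixing `K` normalise its cover. -/
theorem norm_hat (hb : b ∈ A) (hb1 : b ≠ 1) {K : Subgroup (Bb b)} (hK : Cfsg.IsComponent K)
    (hV : vp A b K ≤ centralizer (core b : Set G)) {g : G}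
    (hg : g ∈ centralizer ({b} : Set G))
    (hgK : coreProj b ⟨g, hg⟩ ∈ normalizer (K : Set (Bb b))) :
    g ∈ normalizer (hat A b K : Set G) := by
  refine normalizer_sup_le (Cfsg.Agent.S0205.result (core_odd b)) (perfPart_perfect _)
    (h.hat_cent_core hd hb hb1 hK hV) ?_
  show g ∈ normalizer ((core b ⊔ hat A b K : Subgroup G) : Set G)
  rw [← h.pre_eq hd hb hb1 hK]
  refine Coprime.mem_normalizer_of_map_conj (eq_of_le_of_card_ge ?_ (by rw [Coprime.card_map_conj]))
  rintro _ ⟨x, hx, rfl⟩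
  obtain ⟨hxb, hxK⟩ := mem_pre.1 hx
  refine mem_pre.2 ⟨mul_mem (mul_mem hg hxb) (inv_mem hg), ?_⟩
  show coreProj b (⟨g, hg⟩ * ⟨x, hxb⟩ * ⟨g, hg⟩⁻¹) ∈ K
  rw [map_mul, map_mul, map_inv]
  exact Coprime.conj_mem hgK hxK

/-- An element commuting with part of the piece modulo the core fixes the component. -/
theorem fixes_of_commute (hb : b ∈ A) {K : Subgroup (Bb b)} (hK : Cfsg.IsComponent K) {g : G}
    (hg : g ∈ centralizer ({b} : Set G)) {v : G} (hv : v ∈ vp A b K) (hv1 : v ≠ 1)
    (hc : Commute g v) : coreProj b ⟨g, hg⟩ ∈ normalizer (K : Set (Bb b)) := by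
  set y := coreProj b ⟨g, hg⟩
  have hK' := Components.component_conj hK y
  by_cases e : K.map (MulAut.conj y).toMonoidHom = K
  · exact Components.mem_normalizer_of_map_conj_eq e
  exfalso
  set p := coreProj b ⟨v, h.le_cent hb hv.1⟩
  have hm : p ∈ K.map (MulAut.conj y).toMonoidHom := ⟨p, (h.image_vp_mem hd hb hv).2, by
    show y * p * y⁻¹ = p
    rw [← map_mul, ← map_inv, ← map_mul]
    exact congrArg _ (Subtype.ext (show g * v * g⁻¹ = v by rw [hc.eq, mul_inv_cancel_right]))⟩
  have hz : (⟨p, (h.image_vp_mem hd hb hv).2⟩ : K) ∈ center K := mem_center_iff.2 fun z =>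
    Subtype.ext (mem_centralizer_iff.1 (commutator_eq_bot_iff_le_centralizer.1
      (Components.components_commute hK' hK e) hm) z z.2)
  rw [h.center_eq_bot hd hb hK, mem_bot] at hz
  exact hv1 (h.proj_injOn (hy := one_mem _) hv.1 (one_mem A)
    ((congrArg Subtype.val hz).trans (map_one (coreProj b)).symm))

/-- Components with meeting pieces coincide. -/
theorem comp_unique (hb : b ∈ A) {K K' : Subgroup (Bb b)} (hK : Cfsg.IsComponent K)
    (hK' : Cfsg.IsComponent K') {v : G} (hv : v ∈ vp A b K) (hv' : v ∈ vp A b K') (hv1 : v ≠ 1) :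
    K' = K := by
  by_contra hne
  have h1 : v ∈ vp A b K ⊓ qp A b K := ⟨hv, h.vp_le_qp hd hb hK hK' hne hv'⟩
  rw [h.vp_inf_qp hd hb hK, mem_bot] at h1
  exact hv1 h1

end Ctx

end Cfsg.Agent.H88.Walter
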