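import Mathlib

/-!
# Odd automorphism groups of a simple piece with abelian Sylow 2-subgroup

`L` is a group, `V` an elementary abelian self-centralising 2-subgroup.  An automorphism of odd
order is shown to be trivial from fixed point information only; no description of the automorphism
group of `L` is used.
-/

set_option autoImplicit false

namespace Cfsg.Agent.H88.Walter

open Subgroup

variable {L : Type*} [Group L]

/-- An element of odd order commuting with a conjugation which inverts it is trivial. -/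
theorem eq_one_of_odd_inverted {M : Type*} [Group M] {w s : M} (hw : Odd (orderOf w))
    (hinv : s * w * s⁻¹ = w⁻¹) (hc : Commute s w) : w = 1 := by
  have h : w⁻¹ = w := by rw [← hinv, hc.eq, mul_inv_cancel_right]
  have h2 : w ^ 2 = 1 := by rw [pow_two]; nth_rewrite 1 [← h]; exact inv_mul_cancel w
  rcases (Nat.dvd_prime Nat.prime_two).1 (orderOf_dvd_of_pow_eq_one h2) with h1 | h1
  · exact orderOf_eq_one_iff.1 h1
  · rw [h1] at hw; exact absurd hw (by decide)

/-- `φ` fixes the subgroup `U` pointwise. -/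
def Fixes (φ : MulAut L) (U : Subgroup L) : Prop :=
  ∀ u ∈ U, φ u = u

theorem Fixes.pow {φ : MulAut L} {U : Subgroup L} (h : Fixes φ U) (k : ℕ) : Fixes (φ ^ k) U := by
  intro u hu
  induction k with
  | zero => rfl
  | succ k ih => rw [pow_succ, MulAut.mul_apply, h u hu, ih]

theorem Fixes.commute_conj {φ : MulAut L} {U : Subgroup L} (h : Fixes φ U) {u : L} (hu : u ∈ U) :
    Commute (MulAut.conj u) φ := by
  refine MulEquiv.ext fun x => ?_
  simp only [MulAut.mul_apply, MulAut.conj_apply, map_mul, map_inv, h u hu]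

/-- An automorphism fixing `U` pointwise and inverted by conjugation by an element of `U`. -/
theorem eq_one_of_fixes_inverted {φ : MulAut L} (hφ : Odd (orderOf φ)) {U : Subgroup L}
    (h : Fixes φ U) {u : L} (hu : u ∈ U)
    (hinv : MulAut.conj u * φ * (MulAut.conj u)⁻¹ = φ⁻¹) : φ = 1 :=
  eq_one_of_odd_inverted hφ hinv (h.commute_conj hu)

/-- An odd automorphism fixing an elementary self-centralising 2-group fixes its normaliser. -/
theorem fixes_normalizer [Finite L] {V : Subgroup L} (hV : ∀ v ∈ V, v * v = 1)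
    (hC : centralizer (V : Set L) ≤ V) {φ : MulAut L} (hφ : Odd (orderOf φ)) (h : Fixes φ V) :
    Fixes φ (normalizer (V : Set L)) := by
  intro n hn
  have hd : n⁻¹ * φ n ∈ V := by
    refine hC (mem_centralizer_iff.2 fun v hv => ?_)
    have h1 : n * v * n⁻¹ ∈ V := (mem_normalizer_iff.1 hn v).1 hv
    have h2 := h _ h1
    rw [map_mul, map_mul, map_inv, h v hv] at h2
    have h3 : φ n * v = n * v * n⁻¹ * φ n := by
      rw [← h2, inv_mul_cancel_right]
    calc v * (n⁻¹ * φ n) = n⁻¹ * (n * v * n⁻¹ * φ n) := by group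
      _ = n⁻¹ * (φ n * v) := by rw [h3]
      _ = n⁻¹ * φ n * v := by group
  set v := n⁻¹ * φ n with hv
  have hn' : φ n = n * v := by rw [hv, mul_inv_cancel_left]
  have hk : ∀ k : ℕ, (φ ^ k) n = n * v ^ k := by
    intro k
    induction k with
    | zero => simp
    | succ k ih =>
      rw [pow_succ, MulAut.mul_apply, hn', map_mul, ih, (h.pow k) v hd, mul_assoc, ← pow_succ]
  have hv1 : v ^ orderOf φ = 1 := by
    have := hk (orderOf φ)
    rw [pow_orderOf_eq_one, MulAut.one_apply] at this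
    exact left_eq_mul.1 this
  obtain ⟨j, hj⟩ := hφ
  rw [hj, pow_succ, pow_mul, pow_two, hV v hd, one_pow, one_mul] at hv1
  rw [hn', hv1, mul_one]

/-- An automorphism fixing pointwise subgroups generating `L` is trivial. -/
theorem eq_one_of_generated {φ : MulAut L} {U W : Subgroup L} (hU : Fixes φ U) (hW : Fixes φ W)
    (hgen : U ⊔ W = ⊤) : φ = 1 := by
  refine MulEquiv.ext fun x => ?_
  have hle : U ⊔ W ≤ φ.toMonoidHom.eqLocus (MonoidHom.id L) := sup_le hU hW
  exact hle (hgen ▸ mem_top x)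

/-- An automorphism fixing a subgroup `B` pointwise and every left coset of `B` is trivial, if `B`
contains no normal subgroup. -/
theorem eq_one_of_fixes_cosets {φ : MulAut L} {B : Subgroup L} (hcore : B.normalCore = ⊥)
    (h : ∀ g : L, g⁻¹ * φ g ∈ B) : φ = 1 := by
  refine MulEquiv.ext fun x => ?_
  have hmem : x⁻¹ * φ x ∈ B.normalCore := by
    intro g
    have h1 := h (x * g⁻¹)
    rw [map_mul] at h1
    have h2 : (g⁻¹⁻¹ * φ g⁻¹) ∈ B := h g⁻¹
    have h3 := B.mul_mem h1 (B.inv_mem h2)
    simpa [mul_assoc] using h3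
  rw [hcore, mem_bot, inv_mul_eq_one] at hmem
  exact hmem.symm

/-- The Borel criterion: `B ≥ V` is fixed pointwise, and `V` is transitive on the other cosets. -/
theorem eq_one_of_borel [Finite L] {V B : Subgroup L} (hV : ∀ v ∈ V, v * v = 1) (hVB : V ≤ B)
    (hcore : B.normalCore = ⊥)
    (htrans : ∀ g h : L, g ∉ B → h ∉ B → ∃ v ∈ V, (v * g)⁻¹ * h ∈ B)
    {φ : MulAut L} (hφ : Odd (orderOf φ)) (hB : Fixes φ B) : φ = 1 := by
  refine eq_one_of_fixes_cosets hcore fun g => ?_
  by_cases hg : g ∈ B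
  · rw [hB g hg, inv_mul_cancel]; exact one_mem _
  have hgφ : φ g ∉ B := fun hm => by
    have := hB _ hm
    exact hg (φ.injective this ▸ hm)
  obtain ⟨v, hv, hvb⟩ := htrans g (φ g) hg hgφ
  set b := (v * g)⁻¹ * φ g with hb
  have hφg : φ g = v * g * b := by rw [hb, mul_inv_cancel_left]
  have hk : ∀ k : ℕ, ∃ c ∈ B, (φ ^ k) g = v ^ k * g * c := by
    intro k
    induction k with
    | zero => exact ⟨1, one_mem _, by simp⟩
    | succ k ih =>
      obtain ⟨c, hc, hck⟩ := ih
      refine ⟨c * b, mul_mem hc hvb, ?_⟩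
      rw [pow_succ φ, MulAut.mul_apply, hφg, map_mul, map_mul, (hB.pow k) v (hVB hv), hck,
        (hB.pow k) b hvb, pow_succ']
      group
  obtain ⟨c, hc, hck⟩ := hk (orderOf φ)
  rw [pow_orderOf_eq_one, MulAut.one_apply] at hck
  obtain ⟨j, hj⟩ := hφ
  rw [hj, pow_succ, pow_mul, pow_two, hV v hv, one_pow, one_mul] at hck
  have hb' : φ g = g * (c⁻¹ * b) := by
    rw [hφg]
    nth_rewrite 2 [hck]
    group
  rw [hb', inv_mul_cancel_left]
  exact mul_mem (inv_mem hc) hvb

/-- The elements whose conjugation lies in `W`. -/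
def innerPart (W : Subgroup (MulAut L)) : Subgroup L :=
  W.comap MulAut.conj

theorem mem_innerPart {W : Subgroup (MulAut L)} {x : L} :
    x ∈ innerPart W ↔ MulAut.conj x ∈ W :=
  Iff.rfl

theorem conj_eq_one_iff (hZ : center L = ⊥) {x : L} : MulAut.conj x = 1 ↔ x = 1 := by
  refine ⟨fun h => ?_, fun h => by rw [h, map_one]⟩
  have : x ∈ center L := mem_center_iff.2 fun y => by
    have := congrArg (fun e : MulAut L => e y) h
    simp only [MulAut.conj_apply, MulAut.one_apply] at this
    exact (mul_inv_eq_iff_eq_mul.1 this).symm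
  rwa [hZ, mem_bot] at this

theorem odd_card_innerPart [Finite L] (hZ : center L = ⊥) {W : Subgroup (MulAut L)}
    (hW : Odd (Nat.card W)) : Odd (Nat.card (innerPart W)) := by
  have hinj : Function.Injective (MulAut.conj : L →* MulAut L) :=
    (injective_iff_map_eq_one _).2 fun x hx => (conj_eq_one_iff hZ).1 hx
  refine hW.of_dvd_nat ?_
  have h : Nat.card ((innerPart W).map (MulAut.conj : L →* MulAut L)) ∣ Nat.card W :=
    card_dvd_of_le (map_comap_le _ _)
  rwa [card_map_of_injective hinj] at h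

theorem commutator_mem_innerPart {W : Subgroup (MulAut L)} {w : MulAut L} (hw : w ∈ W) {c : L}
    (hc : MulAut.conj c ∈ normalizer (W : Set (MulAut L))) : c * w c⁻¹ ∈ innerPart W := by
  rw [mem_innerPart]
  have h1 : MulAut.conj c * w * (MulAut.conj c)⁻¹ * w⁻¹ ∈ W :=
    W.mul_mem ((mem_normalizer_iff.1 hc w).1 hw) (W.inv_mem hw)
  have h2 : MulAut.conj (c * w c⁻¹) = MulAut.conj c * w * (MulAut.conj c)⁻¹ * w⁻¹ := by
    refine MulEquiv.ext fun x => ?_
    simp [MulAut.mul_apply, MulAut.inv_def, mul_assoc]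
  rwa [h2]

/-- The fixed points of `W` on the centraliser of `v`. -/
theorem fixes_centralizer_of_innerPart {W : Subgroup (MulAut L)} {C : Subgroup L}
    (hn : ∀ c ∈ C, MulAut.conj c ∈ normalizer (W : Set (MulAut L)))
    (h0 : innerPart W ⊓ C = ⊥) (hfix : ∀ w ∈ W, ∀ c ∈ C, w c ∈ C) {w : MulAut L} (hw : w ∈ W) :
    Fixes w C := by
  intro c hc
  have h : c * w c⁻¹ ∈ innerPart W ⊓ C :=
    ⟨commutator_mem_innerPart hw (hn c hc), C.mul_mem hc (hfix w hw _ (C.inv_mem hc))⟩
  rw [h0, mem_bot, map_inv, mul_inv_eq_one] at h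
  exact h.symm

/-- Odd subgroups of `C(v)` normalised by `C(v)` are trivial. -/
def BalancedAt (v : L) : Prop :=
  ∀ X : Subgroup L, X ≤ centralizer {v} → Odd (Nat.card X) →
    centralizer {v} ≤ normalizer (X : Set L) → X = ⊥

/-- An odd automorphism fixing `V`, its normaliser and `C(v)` pointwise is trivial. -/
def RigidAt (V : Subgroup L) (v : L) : Prop :=
  ∀ φ : MulAut L, Odd (orderOf φ) → Fixes φ V → Fixes φ (normalizer (V : Set L)) →
    Fixes φ (centralizer {v}) → φ = 1

theorem rigidAt_of_generated {V : Subgroup L} {v : L}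
    (h : centralizer {v} ⊔ normalizer (V : Set L) = ⊤) : RigidAt V v :=
  fun _ _ _ hN hC => eq_one_of_generated hC hN h

theorem rigidAt_of_borel [Finite L] {V : Subgroup L} (hV : ∀ v ∈ V, v * v = 1)
    (hcore : (normalizer (V : Set L)).normalCore = ⊥)
    (htrans : ∀ g h : L, g ∉ normalizer (V : Set L) → h ∉ normalizer (V : Set L) →
      ∃ v ∈ V, (v * g)⁻¹ * h ∈ normalizer (V : Set L)) (v : L) : RigidAt V v :=
  fun _ hφ _ hN _ => eq_one_of_borel hV le_normalizer hcore htrans hφ hN

theorem centralizer_invariant {v : L} {φ : MulAut L} (h : φ v = v) {c : L}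
    (hc : c ∈ centralizer {v}) : φ c ∈ centralizer {v} := by
  rw [mem_centralizer_singleton_iff] at hc ⊢
  rw [← h, ← map_mul, ← map_mul, hc]

/-- An odd group of automorphisms fixing `v` and normalised by `C(v)`, whose inner part in `C(v)`
is trivial, is trivial. -/
theorem eq_bot_of_innerPart [Finite L] {V : Subgroup L} (hV : ∀ x ∈ V, x * x = 1)
    (hC : centralizer (V : Set L) ≤ V) {v : L} (hvV : V ≤ centralizer {v}) (hR : RigidAt V v)
    {W : Subgroup (MulAut L)} (hW : Odd (Nat.card W)) (hv : ∀ w ∈ W, w v = v)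
    (hn : ∀ c ∈ centralizer {v}, MulAut.conj c ∈ normalizer (W : Set (MulAut L)))
    (h0 : innerPart W ⊓ centralizer {v} = ⊥) : W = ⊥ := by
  rw [eq_bot_iff]
  intro w hw
  have hCv : Fixes w (centralizer {v}) :=
    fixes_centralizer_of_innerPart hn h0 (fun w hw c hc => centralizer_invariant (hv w hw) hc) hw
  have hwo : Odd (orderOf w) := hW.of_dvd_nat (orderOf_dvd_natCard W hw)
  have hwV : Fixes w V := fun x hx => hCv x (hvV hx)
  exact mem_bot.2 (hR w hwo hwV (fixes_normalizer hV hC hwo hwV) hCv)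

/-- Balanced pieces: an odd group of automorphisms fixing `v` and normalised by `C(v)` is
trivial. -/
theorem eq_bot_of_balanced [Finite L] {V : Subgroup L} (hV : ∀ x ∈ V, x * x = 1)
    (hC : centralizer (V : Set L) ≤ V) {v : L} (hvV : V ≤ centralizer {v}) (hR : RigidAt V v)
    (hZ : center L = ⊥) (hbal : BalancedAt v)
    {W : Subgroup (MulAut L)} (hW : Odd (Nat.card W)) (hv : ∀ w ∈ W, w v = v)
    (hn : ∀ c ∈ centralizer {v}, MulAut.conj c ∈ normalizer (W : Set (MulAut L))) : W = ⊥ := by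
  refine eq_bot_of_innerPart hV hC hvV hR hW hv hn (hbal _ inf_le_right ?_ ?_)
  · exact (odd_card_innerPart hZ hW).of_dvd_nat (card_dvd_of_le inf_le_left)
  · intro c hc
    refine mem_normalizer_iff.2 fun x => ?_
    have hcx : c * x * c⁻¹ ∈ innerPart W ↔ x ∈ innerPart W := by
      rw [mem_innerPart, mem_innerPart, map_mul, map_mul, map_inv]
      exact (mem_normalizer_iff.1 (hn c hc) _).symm
    have hcc : c * x * c⁻¹ ∈ centralizer {v} ↔ x ∈ centralizer {v} :=
      ⟨fun h => by simpa [mul_assoc] using mul_mem (mul_mem (inv_mem hc) h) hc,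
        fun h => mul_mem (mul_mem hc h) (inv_mem hc)⟩
    exact ⟨fun h => ⟨hcx.2 h.1, hcc.2 h.2⟩, fun h => ⟨hcx.1 h.1, hcc.1 h.2⟩⟩

/-- An odd group of automorphisms fixing `V` pointwise and normalised by `C(v)` is trivial. -/
theorem eq_bot_of_fixes [Finite L] {V : Subgroup L} (hV : ∀ x ∈ V, x * x = 1)
    (hC : centralizer (V : Set L) ≤ V) {v : L} (hvV : V ≤ centralizer {v}) (hv : v ∈ V)
    (hR : RigidAt V v) (hZ : center L = ⊥)
    {W : Subgroup (MulAut L)} (hW : Odd (Nat.card W)) (hfix : ∀ w ∈ W, Fixes w V)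
    (hn : ∀ c ∈ centralizer {v}, MulAut.conj c ∈ normalizer (W : Set (MulAut L))) : W = ⊥ := by
  refine eq_bot_of_innerPart hV hC hvV hR hW (fun w hw => hfix w hw v hv) hn ?_
  rw [eq_bot_iff]
  intro x hx
  have hxC : x ∈ centralizer (V : Set L) := mem_centralizer_iff.2 fun u hu => by
    have := hfix _ hx.1 u hu
    rw [MulAut.conj_apply, mul_inv_eq_iff_eq_mul] at this
    exact this.symm
  have h2 : x * x = 1 := hV x (hC hxC)
  refine mem_bot.2 (orderOf_eq_one_iff.1 ?_)
  refine Nat.eq_one_of_dvd_coprimes (Nat.coprime_two_left.2 (odd_card_innerPart hZ hW))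
    (orderOf_dvd_of_pow_eq_one (by rw [pow_two, h2])) ?_
  exact Subgroup.orderOf_dvd_natCard _ hx.1

end Cfsg.Agent.H88.Walter
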