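import Cfsg.Agent.H88.Walter.Hat
import Cfsg.Agent.Coprime.Generation

/-!
# Members

A member is a subgroup `Q ≤ A` which is, for every `c ∈ Q#`, the kernel of an unbalanced component
at `c`.  An element `x ≠ 1` of `O(C(a))` centralising a hyperplane `H` of `A` and inverted outside
`H` gives a member `Q ≤ H` with `a ∉ Q`.
-/

set_option autoImplicit false
set_option linter.unusedSectionVars false
set_option linter.unusedVariables false
set_option linter.style.haveILetI false

namespace Cfsg.Agent.H88.Walter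

open Subgroup Cfsg.Agent
open Cfsg.Agent.H21.Walter (coreProj coreImage coreProj_eq_one_iff)
open scoped commutatorElement

universe u

variable {G : Type u} [Group G] [Finite G]

local instance fact_two_p : Fact (Nat.Prime 2) := ⟨Nat.prime_two⟩

/-- All `Δ(E)`, `|E| = 8`, are trivial. -/
def DeltaHyp (A : Subgroup G) : Prop :=
  ∀ E : Subgroup G, E ≤ A → Nat.card E = 8 → Cfsg.signalizerDelta 2 E = ⊥

/-- `x` centralises the hyperplane `H` of `A` and is inverted by `s ∈ A - H`. -/
structure IsPiece (A : Subgroup G) (a x : G) (H : Subgroup G) (s : G) : Prop where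
  mem : x ∈ core a
  le : H ≤ A
  index : Nat.card H * 2 = Nat.card A
  fix : x ∈ centralizer (H : Set G)
  smem : s ∈ A
  snot : s ∉ H
  inv : s * x * s⁻¹ = x⁻¹

namespace Ctx

variable {S : Sylow 2 G} {A : Subgroup G} (h : Ctx S A)
include h

/-- An unbalanced component. -/
def Unb {b : G} (hb : b ∈ A) (K : Subgroup (Bb b)) : Prop :=
  ¬ ∀ x ∈ ((h.sylowBar hb : Subgroup (Bb b)) ⊓ K).subgroupOf K, x ≠ 1 → H21.Walter.OddTrivialAt x

/-- A member. -/
def Member (Q : Subgroup G) : Prop :=
  Q ≤ A ∧ Q ≠ ⊥ ∧ ∀ c, ∀ hc : c ∈ A, c ∈ Q → c ≠ 1 →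
    ∃ K : Subgroup (Bb c), Cfsg.IsComponent K ∧ qp A c K = Q ∧ h.Unb hc K

theorem mul_mem_hyper {H : Subgroup G} (hH : H ≤ A) (hi : Nat.card H * 2 = Nat.card A) {x y : G}
    (hx : x ∈ A) (hy : y ∈ A) (hxH : x ∉ H) (hyH : y ∉ H) : x * y ∈ H := by
  have hidx : (H.subgroupOf A).index = 2 := by
    have h1 := card_mul_index (H.subgroupOf A)
    rw [Nat.card_congr (subgroupOfEquivOfLe hH).toEquiv, ← hi] at h1
    exact Nat.eq_of_mul_eq_mul_left Nat.card_pos h1
  exact (mul_mem_iff_of_index_two hidx (a := ⟨x, hx⟩) (b := ⟨y, hy⟩)).2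
    (iff_of_false hxH hyH)

variable (hd : ShapeData.{u})
include hd

theorem unb_type {b : G} (hb : b ∈ A) (hb1 : b ≠ 1) {K : Subgroup (Bb b)} (hK : Cfsg.IsComponent K)
    (hu : h.Unb hb K) {P : Sylow 2 K}
    (hP : (P : Subgroup K) = ((h.sylowBar hb : Subgroup (Bb b)) ⊓ K).subgroupOf K) :
    Unbal (P : Subgroup K) :=
  (h.goodPiece hd hb hb1 hK P).type.resolve_right fun hh => hu (hP ▸ hh)

theorem unb_card {b : G} (hb : b ∈ A) (hb1 : b ≠ 1) {K : Subgroup (Bb b)} (hK : Cfsg.IsComponent K)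
    (hu : h.Unb hb K) : Nat.card (vp A b K) = 4 := by
  obtain ⟨P, -, hP⟩ := h.exists_piece hd hb hb1 hK
  rw [h.card_vp hd hb hb1 hK hP]
  exact (h.unb_type hd hb hb1 hK hu hP).1

/-- The kernel of the action on all components. -/
theorem piece_not_cent {a c x : G} {H : Subgroup G} {s : G} (hp : IsPiece A a x H s) (ha : a ∈ A)
    (hc : c ∈ A) (hc1 : c ≠ 1) (hxc : x ∈ centralizer ({c} : Set G)) (hout : x ∉ core c) :
    ¬ ∀ K : Subgroup (Bb c), Cfsg.IsComponent K →
      coreProj c ⟨x, hxc⟩ ∈ centralizer (K : Set (Bb c)) := by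
  intro hall
  set CL := centralizer (Cfsg.layer (Bb c) : Set (Bb c))
  set W := core a ⊓ centralizer {c} ⊓ pre c CL
  have hCL : CL.Normal := inferInstance
  have hn : centralizer ({a} : Set G) ⊓ centralizer ({c} : Set G) ≤ normalizer (W : Set G) := by
    intro g hg
    refine inf_normalizer_le_normalizer_inf ⟨inf_normalizer_le_normalizer_inf
      ⟨core_normal a hg.1, le_normalizer hg.2⟩, ?_⟩
    refine Coprime.mem_normalizer_of_map_conj (eq_of_le_of_card_ge ?_
      (by rw [Coprime.card_map_conj]))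
    rintro _ ⟨y, hy, rfl⟩
    obtain ⟨hyc, hyK⟩ := mem_pre.1 hy
    refine mem_pre.2 ⟨mul_mem (mul_mem hg.2 hyc) (inv_mem hg.2), ?_⟩
    show coreProj c (⟨g, hg.2⟩ * ⟨y, hyc⟩ * ⟨g, hg.2⟩⁻¹) ∈ CL
    rw [map_mul, map_mul, map_inv]
    exact hCL.conj_mem _ hyK _
  refine hout (h.le_core_of_cent hd hc hc1 (odd_of_le (core_odd a) (inf_le_left.trans inf_le_left))
    (fun y hy => hn ⟨h.S_le_cent ha hy, h.S_le_cent hc hy⟩) (inf_le_left.trans inf_le_right)
    (fun K hK y hy => ?_) ⟨⟨hp.mem, hxc⟩, mem_pre.2 ⟨hxc, mem_centralizer_iff.2 fun l hl => ?_⟩⟩)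
  · obtain ⟨w, hwc, hw, rfl⟩ := mem_coreImage.1 hy
    obtain ⟨_, hm⟩ := mem_pre.1 hw.2
    exact centralizer_le (Components.component_le_layer hK) hm
  · exact mem_centralizer_iff.1 (sSup_le (fun K hK => le_centralizer_iff.1
      (show zpowers (coreProj c ⟨x, hxc⟩) ≤ centralizer (K : Set (Bb c)) from
        zpowers_le.2 (hall K hK))) hl) _ (mem_zpowers _) |>.symm

/-- A component on which a piece is non-trivial. -/
theorem piece_at {a c x : G} {H : Subgroup G} {s : G} (hp : IsPiece A a x H s) (ha : a ∈ A)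
    (hc : c ∈ A) (hc1 : c ≠ 1) (hxc : x ∈ centralizer ({c} : Set G)) {K : Subgroup (Bb c)}
    (hK : Cfsg.IsComponent K) (hne : coreProj c ⟨x, hxc⟩ ∉ centralizer (K : Set (Bb c))) :
    h.Unb hc K ∧ qp A c K ≤ H ∧ a ∉ qp A c K := by
  set X := core a ⊓ centralizer ({c} : Set G)
  have hXn : centralizer ({a} : Set G) ⊓ centralizer ({c} : Set G) ≤ normalizer (X : Set G) :=
    (inf_le_inf (core_normal a) le_normalizer).trans inf_normalizer_le_normalizer_inf
  have hX : Odd (Nat.card X) := odd_of_le (core_odd a) inf_le_left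
  have hxX : x ∈ X := ⟨hp.mem, hxc⟩
  refine ⟨fun hbal => hne ?_, fun q hq => by_contra fun hqH => hne ?_, fun haq => hne ?_⟩
  · exact h.le_cent_bal hd hc hc1 hK hbal ha hX (inf_le_left.trans (core_le a)) hXn
      (coreImage_mem hxc hxX)
  · have hxN := h.odd_fixes hd hc hc1 hX
      (fun y hy => hXn ⟨h.S_le_cent ha hy, h.S_le_cent hc hy⟩) hK hxX hxc
    refine h.cent_of_inverted hd hc hc1 hK hxc (odd_of_mem hX hxX) hxN (fun v hv => ?_) hp.smem
      hp.inv
    refine ⟨h.le_cent hc hv.1, ?_⟩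
    by_cases hvH : v ∈ H
    · show _ * _ = _ * _
      rw [← map_mul, ← map_mul]
      exact congrArg _ (Subtype.ext (mem_centralizer_iff.1 hp.fix v hvH).symm)
    · have hvq := h.mul_mem_hyper hp.le hp.index hv.1 hq.1 hvH hqH
      obtain ⟨hqc, hqK⟩ := mem_pre.1 hq.2
      have h1 := (h.localPieces hd hc hc1).fix_part (i := ⟨K, hK⟩)
        (v := coreProj c ⟨v, h.le_cent hc hv.1⟩) (c := coreProj c ⟨q, hqc⟩)
        (e := coreProj c ⟨v * q, h.le_cent hc (mul_mem hv.1 hq.1)⟩) (h.image_vp_mem hd hc hv).2 hqK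
        (by rw [← map_mul]; rfl) hxN (by
          show _ * _ = _ * _
          rw [← map_mul, ← map_mul]
          exact congrArg _ (Subtype.ext (mem_centralizer_iff.1 hp.fix _ hvq).symm))
      exact mul_inv_eq_iff_eq_mul.1 h1
  · exact h.le_cent_qp hd hc hc1 hK haq hX hXn (coreImage_mem hxc hxX)

/-- A piece gives a member. -/
theorem exists_member (hΔ : DeltaHyp A) {a x : G} {H : Subgroup G} {s : G}
    (hp : IsPiece A a x H s) (ha : a ∈ A) (hx1 : x ≠ 1) :
    ∃ Q, h.Member Q ∧ Q ≤ H ∧ a ∉ Q := by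
  have hlarge := h.large
  obtain ⟨E, hEH, hE⟩ := H21.Walter.exists_card_eq (p := 2) h.elem hp.le (j := 3)
    (by have := hp.index; omega)
  obtain ⟨h0, hh0E, hh01, hout⟩ : ∃ e ∈ E, e ≠ 1 ∧ x ∉ core e := by
    by_contra! hall
    have : x ∈ Cfsg.signalizerDelta 2 E :=
      H47.le_delta (D := zpowers x) (fun e he he1 => zpowers_le.2 (hall e he he1)) (mem_zpowers x)
    rw [hΔ E (hEH.trans hp.le) (by rw [hE]; norm_num), mem_bot] at this
    exact hx1 this
  have hxC : ∀ {c : G}, c ∈ H → x ∈ centralizer ({c} : Set G) := fun hc =>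
    centralizer_le (Set.singleton_subset_iff.2 hc) hp.fix
  have hb := hp.le (hEH hh0E)
  obtain ⟨K, hK, hne⟩ : ∃ K : Subgroup (Bb h0), Cfsg.IsComponent K ∧
      coreProj h0 ⟨x, hxC (hEH hh0E)⟩ ∉ centralizer (K : Set (Bb h0)) := by
    have := h.piece_not_cent hd hp ha hb hh01 (hxC (hEH hh0E)) hout
    push Not at this
    exact this
  obtain ⟨hu, hQH, haQ⟩ := h.piece_at hd hp ha hb hh01 _ hK hne
  set Q := qp A h0 K with hQ
  refine ⟨Q, ⟨inf_le_left, fun e => hh01 (by
    simpa [← hQ, e] using h.self_mem_qp hd hb hh01 hK), fun c hcA hcQ hc1 => ?_⟩, hQH, haQ⟩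
  -- the cover seen at `c`
  set M := hat A h0 K
  have hMc : M ≤ centralizer ({c} : Set G) :=
    (hat_le_cent A h0 K).trans (centralizer_le (Set.singleton_subset_iff.2 hcQ))
  have hxc := hxC (hQH hcQ)
  have hxM : x ∈ normalizer (M : Set G) :=
    h.cent_qp_le_normalizer hd K (centralizer_le hQH hp.fix)
  set Y := coreImage c M
  have hYp : ⁅Y, Y⁆ = Y := perfect_coreImage (perfPart_perfect _) hMc
  have hxY : coreProj c ⟨x, hxc⟩ ∉ centralizer (Y : Set (Bb c)) := by
    intro hxY
    refine hne (mem_centralizer_iff.2 fun k hk => ?_)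
    -- the commutators of `x` with the cover form an odd normal subgroup of it
    have hcomm : ∀ m ∈ M, ⁅x, m⁆ ∈ core c ⊓ M := fun m hm => by
      refine ⟨(coreProj_eq_one_iff (x := ⁅(⟨x, hxc⟩ : ↥(centralizer ({c} : Set G))), ⟨m, hMc hm⟩⁆)).1
        ?_, ?_⟩
      · rw [map_commutatorElement, commutatorElement_eq_one_iff_mul_comm]
        exact (mem_centralizer_iff.1 hxY _ (coreImage_mem (hMc hm) hm)).symm
      · rw [commutatorElement_def]
        exact Subgroup.mul_mem _ (Coprime.conj_mem hxM hm) (Subgroup.inv_mem _ hm)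
    set N := coreImage h0 (core c ⊓ M)
    have hNK : N ≤ K :=
      le_of_le_of_eq (map_mono (comap_mono inf_le_right)) (h.image_hat hd hb hh01 hK)
    have hMN : M ≤ normalizer ((core c ⊓ M : Subgroup G) : Set G) :=
      (le_inf (hMc.trans (core_normal c)) le_normalizer).trans inf_normalizer_le_normalizer_inf
    have hnor : (N.subgroupOf K).Normal := by
      refine normal_subgroupOf_of_le_normalizer fun k hk => ?_
      rw [← h.image_hat hd hb hh01 hK] at hk
      obtain ⟨m, hmb, hm, rfl⟩ := mem_coreImage.1 hk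
      exact le_normalizer_map _ (mem_map_of_mem _
        (show (⟨m, hmb⟩ : ↥(centralizer ({h0} : Set G))) ∈
          normalizer (((core c ⊓ M).subgroupOf (centralizer ({h0} : Set G)) : Subgroup _) : Set _)
          from mem_normalizer_iff.2 fun z => mem_normalizer_iff.1 (hMN hm) z))
    have hNbot : N = ⊥ := by
      have := (h.cfg.component_simple_bar _ hK).1
      rcases hnor.eq_bot_or_eq_top with e | e
      · rw [subgroupOf_eq_bot] at e
        exact e.eq_bot_of_le hNK
      · exfalso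
        obtain ⟨v, hv, hv1⟩ := h.vp_ne_bot hd hb hh01 hK
        have h2 := subgroupOf_eq_top.1 e (h.image_vp_mem hd hb hv).2
        have h3 := H21.Walter.eq_one_of_odd (h.coreImage_odd hd (odd_of_le (core_odd c) inf_le_left))
          h2 (by
            rw [← map_mul, show (⟨v, h.le_cent hb hv.1⟩ * ⟨v, h.le_cent hb hv.1⟩ :
              ↥(centralizer ({h0} : Set G))) = 1 from Subtype.ext (h.sq hv.1), map_one])
        exact hv1 (h.proj_injOn (hy := one_mem _) hv.1 (one_mem A) (h3.trans (map_one _).symm))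
    rw [← h.image_hat hd hb hh01 hK] at hk
    obtain ⟨m, hmb, hm, rfl⟩ := mem_coreImage.1 hk
    have hm' := coreImage_mem (b := h0) (H := core c ⊓ M) (h.hat_le hd hb hh01 hK (hcomm m hm).2)
      (hcomm m hm)
    rw [show coreImage h0 (core c ⊓ M) = N from rfl, hNbot, mem_bot] at hm'
    rw [show (⟨⁅x, m⁆, h.hat_le hd hb hh01 hK (hcomm m hm).2⟩ : ↥(centralizer ({h0} : Set G))) =
      ⁅(⟨x, hxC (hEH hh0E)⟩ : ↥(centralizer ({h0} : Set G))), ⟨m, hmb⟩⁆ from Subtype.ext rfl,
      map_commutatorElement, commutatorElement_eq_one_iff_mul_comm] at hm'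
    exact hm'.symm
  -- a component on which both act
  obtain ⟨K', hK', hxK', hYK'⟩ : ∃ K' : Subgroup (Bb c), Cfsg.IsComponent K' ∧
      coreProj c ⟨x, hxc⟩ ∉ centralizer (K' : Set (Bb c)) ∧
        ¬ Y ≤ centralizer (K' : Set (Bb c)) := by
    by_contra! hall
    refine hxY (mem_centralizer_iff.2 fun y hy => ?_)
    set p := coreProj c ⟨x, hxc⟩
    set Z1 := ⨆ K : {K : Subgroup (Bb c) // Cfsg.IsComponent K ∧
      p ∈ centralizer (K : Set (Bb c))}, (K : Subgroup (Bb c))
    set Z2 := ⨆ K : {K : Subgroup (Bb c) // Cfsg.IsComponent K ∧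
      p ∉ centralizer (K : Set (Bb c))}, (K : Subgroup (Bb c))
    have hY2 : Y ≤ centralizer (Z2 : Set (Bb c)) := le_centralizer_iff.1
      (iSup_le fun K => le_centralizer_iff.1 (hall K K.2.1 K.2.2))
    have h12 : Z1 ≤ centralizer (Z2 : Set (Bb c)) := le_centralizer_iff.1 (iSup_le fun K2 =>
      le_centralizer_iff.1 (iSup_le fun K1 => commutator_eq_bot_iff_le_centralizer.1
        (Components.components_commute K1.2.1 K2.2.1 fun e => K2.2.2 (e ▸ K1.2.2))))
    have hlay : Cfsg.layer (Bb c) ≤ Z1 ⊔ Z2 := sSup_le fun L hL => by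
      by_cases e : p ∈ centralizer (L : Set (Bb c))
      · exact le_sup_of_le_left (le_iSup_of_le ⟨L, hL, e⟩ le_rfl)
      · exact le_sup_of_le_right (le_iSup_of_le ⟨L, hL, e⟩ le_rfl)
    have hZ21 : Z2 ≤ normalizer (Z1 : Set (Bb c)) :=
      (le_centralizer_iff.1 h12).trans (centralizer_le_normalizer _)
    have hYL : Y ≤ Cfsg.layer (Bb c) := by
      refine le_of_le_sup hYp (R := Cfsg.fittingSubgroup (Bb c))
        (Components.le_normalizer_of_normal _) (h.perfect_le_genFitting hd hcA hYp) fun Z hZ hZp => ?_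
      refine perfect_eq_bot_of_central hZp ((h.absyl_Bb hcA).subgroup Z) fun z hz hz2 y hy => ?_
      exact (h.absyl_Bb hcA).comm (Cores.pCore_isPGroup (p := 2))
        (Components.fitting_le_pCore (p := 2) (h.oddCore_Bb hcA) (hZ hz))
        (Components.fitting_le_pCore (p := 2) (h.oddCore_Bb hcA) (hZ hy))
    have hY1 : Y ≤ Z1 := by
      refine le_of_le_sup hYp (inf_le_left.trans hZ21)
        (R := Z2 ⊓ centralizer (Z2 : Set (Bb c))) (fun y hy => ?_) fun Z hZ hZp => ?_
      · obtain ⟨z1, hz1, z2, hz2, rfl⟩ := (Coprime.mem_sup_iff hZ21).1 (hlay (hYL hy))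
        refine mul_mem_sup hz1 ⟨hz2, ?_⟩
        have := Subgroup.mul_mem _ (Subgroup.inv_mem _ (h12 hz1)) (hY2 hy)
        rwa [inv_mul_cancel_left] at this
      · exact perfect_eq_bot_of_central hZp ((h.absyl_Bb hcA).subgroup Z) fun z hz _ y hy =>
          (mem_centralizer_iff.1 (hZ hz).2 y (hZ hy).1).symm
    exact (mem_centralizer_iff.1 ((iSup_le fun K => le_centralizer_iff.1 (zpowers_le.2 K.2.2) :
      Z1 ≤ centralizer (zpowers p : Set (Bb c))) (hY1 hy)) p (mem_zpowers p)).symm
  obtain ⟨hu', hQ'H, -⟩ := h.piece_at hd hp ha hcA hc1 hxc hK' hxK'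
  refine ⟨K', hK', ?_, hu'⟩
  have h4 := h.unb_card hd hcA hc1 hK' hu'
  have hle : Q ≤ qp A c K' := by
    intro q hq
    obtain ⟨v, hv, r, hr, e⟩ := h.exists_decomp hd hcA hc1 hK' (hq.1)
    by_cases hv1 : v = 1
    · rw [← e, hv1, one_mul]; exact hr
    exfalso
    refine hYK' ?_
    obtain ⟨hrc, hrK⟩ := mem_pre.1 hr.2
    have hvm := (h.image_vp_mem hd hcA hv).2
    set p := coreProj c ⟨v, h.le_cent hcA hv.1⟩
    refine le_of_le_sup hYp (R := K' ⊓ centralizer ({p} : Set (Bb c)))
      (K := centralizer (K' : Set (Bb c))) (inf_le_left.trans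
        ((le_centralizer_iff.1 le_rfl).trans (centralizer_le_normalizer _)))
      (fun y hy => ?_) fun Z hZ hZp => ?_
    · obtain ⟨m, hmc, hm, rfl⟩ := mem_coreImage.1 hy
      obtain ⟨k, hk, d, hd', he⟩ := (Coprime.mem_sup_iff (centralizer_le_normalizer _)).1
        (h.genFitting_le hd hcA hK' (h.perfect_le_genFitting hd hcA hYp hy))
      have hyq : Commute (k * d) (p * coreProj c ⟨r, hrc⟩) := by
        rw [he, ← map_mul]
        show _ * _ = _ * _
        rw [← map_mul, ← map_mul]
        refine congrArg _ (Subtype.ext ?_)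
        show m * (v * r) = v * r * m
        rw [e]
        exact (mem_centralizer_iff.1 (hat_le_cent A h0 K hm) q hq).symm
      have hkv : Commute k p := by
        have c1 : d * p = p * d := (mem_centralizer_iff.1 hd' p hvm).symm
        have c2 : k * coreProj c ⟨r, hrc⟩ = coreProj c ⟨r, hrc⟩ * k :=
          mem_centralizer_iff.1 hrK k hk
        have hm1 : (k * p) * (d * coreProj c ⟨r, hrc⟩) = (p * k) * (coreProj c ⟨r, hrc⟩ * d) := by
          calc (k * p) * (d * coreProj c ⟨r, hrc⟩) = k * (p * d) * coreProj c ⟨r, hrc⟩ := by group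
            _ = (k * d) * (p * coreProj c ⟨r, hrc⟩) := by rw [← c1]; group
            _ = (p * coreProj c ⟨r, hrc⟩) * (k * d) := hyq.eq
            _ = p * (coreProj c ⟨r, hrc⟩ * k) * d := by group
            _ = (p * k) * (coreProj c ⟨r, hrc⟩ * d) := by rw [← c2]; group
        have hz : (p * k)⁻¹ * (k * p) ∈ K' ⊓ centralizer (K' : Set (Bb c)) := by
          refine ⟨Subgroup.mul_mem _ (Subgroup.inv_mem _ (Subgroup.mul_mem _ hvm hk))
            (Subgroup.mul_mem _ hk hvm), ?_⟩
          rw [show (p * k)⁻¹ * (k * p) = (coreProj c ⟨r, hrc⟩ * d) * (d * coreProj c ⟨r, hrc⟩)⁻¹ by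
            rw [eq_mul_inv_iff_mul_eq, mul_assoc, hm1, inv_mul_cancel_left]]
          exact Subgroup.mul_mem _ (Subgroup.mul_mem _ hrK hd')
            (Subgroup.inv_mem _ (Subgroup.mul_mem _ hd' hrK))
        exact (inv_mul_eq_one.1 ((h.localPieces hd hcA hc1).inf_cent (i := ⟨K', hK'⟩) hz.1 hz.2)).symm
      rw [← he, sup_comm]
      exact mul_mem_sup ⟨hk, mem_centralizer_singleton_iff.2 hkv.eq⟩ hd'
    · refine perfect_eq_bot_of_small hZp fun T => ?_
      -- `T` and `p` lie in a four group, `p` is not in `Z`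
      have hp1 : p ≠ 1 := fun e1 => hv1 (h.proj_injOn (hy := one_mem _) hv.1 (one_mem A)
        (e1.trans (map_one (coreProj c)).symm))
      have hp2 : p * p = 1 := by
        rw [← map_mul, show (⟨v, h.le_cent hcA hv.1⟩ * ⟨v, h.le_cent hcA hv.1⟩ :
          ↥(centralizer ({c} : Set G))) = 1 from Subtype.ext (h.sq hv.1), map_one]
      have hpZ : p ∉ Z := fun hpZ => by
        have hperf : commutator Z = ⊤ := map_injective Z.subtype_injective (by
          rw [map_subtype_commutator, hZp, ← MonoidHom.range_eq_map, range_subtype])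
        haveI : Group.IsPerfect Z := ⟨hperf⟩
        obtain ⟨T'⟩ : Nonempty (Sylow 2 Z) := inferInstance
        haveI := (h.absyl_Bb hcA).subgroup Z T'
        have h1 : (⟨p, hpZ⟩ : Z) = 1 := Components.eq_one_of_perfect_center T'
          (mem_center_iff.2 fun y => Subtype.ext (mem_centralizer_singleton_iff.1 (hZ y.2).2))
          (Subtype.ext (by simpa [pow_two] using hp2))
        exact hp1 (congrArg Subtype.val h1)
      set T2 := ((T : Subgroup Z).map Z.subtype) ⊔ zpowers p
      have hTle : (T : Subgroup Z).map Z.subtype ≤ K' ⊓ centralizer ({p} : Set (Bb c)) :=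
        (map_subtype_le _).trans hZ
      have hpn : zpowers p ≤ normalizer (((T : Subgroup Z).map Z.subtype : Subgroup _) : Set _) :=
        zpowers_le.2 (centralizer_le_normalizer _ (mem_centralizer_iff.2 fun t ht =>
          mem_centralizer_singleton_iff.1 (hTle ht).2))
      have hT2 : IsPGroup 2 T2 := (T.isPGroup'.map _).to_sup_of_normal_left'
        (IsPGroup.of_card (n := 1) (by
          rw [Nat.card_zpowers, pow_one]; exact orderOf_eq_prime (by rw [pow_two, hp2]) hp1)) hpn
      have hT2K : T2 ≤ K' := sup_le (hTle.trans inf_le_left) (zpowers_le.2 hvm)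
      obtain ⟨P, -, hP⟩ := h.exists_piece hd hcA hc1 hK'
      obtain ⟨P', hP'⟩ := (hT2.comap_subtype (K := K')).exists_le_sylow
      have hcard : Nat.card T2 ≤ 4 := by
        rw [← Nat.card_congr (subgroupOfEquivOfLe hT2K).toEquiv]
        refine (card_le_of_le hP').trans ?_
        rw [P'.card_eq_multiplicity, ← P.card_eq_multiplicity]
        exact (h.unb_type hd hcA hc1 hK' hu' hP).1.le
      have hdis : (T : Subgroup Z).map Z.subtype ⊓ zpowers p = ⊥ := by
        refine (eq_bot_iff_forall _).2 fun y hy => ?_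
        obtain ⟨i, rfl⟩ := mem_zpowers_iff.1 hy.2
        rcases Int.even_or_odd' i with ⟨j, rfl | rfl⟩
        · rw [zpow_mul, zpow_two, hp2, one_zpow]
        · exfalso
          have := map_subtype_le _ hy.1
          rw [zpow_add, zpow_mul, zpow_two, hp2, one_zpow, one_mul, zpow_one] at this
          exact hpZ this
      have := Coprime.card_sup hpn hdis
      rw [Nat.card_zpowers, orderOf_eq_prime (by rw [pow_two, hp2]) hp1,
        card_map_of_injective Z.subtype_injective] at this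
      change Nat.card T2 = _ at this
      show Nat.card ↥(T : Subgroup Z) ≤ 2
      omega
  refine (eq_of_le_of_card_ge hle ?_).symm
  have e1 := h.card_mul hd hb hh01 hK
  have e2 := h.card_mul hd hcA hc1 hK'
  rw [h.unb_card hd hb hh01 hK hu] at e1
  rw [h4] at e2
  change 4 * Nat.card Q = _ at e1
  omega

end Ctx

end Cfsg.Agent.H88.Walter
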