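import Cfsg.Agent.H88.Walter.Data
import Cfsg.Agent.H29.Walter.PslFacts

/-!
# The pieces `PSL₂(q)`, `q ≡ 3, 5 (mod 8)`, are good

The Sylow 2-subgroup is a four group fused by an element of its normalizer; for `q = 5` the piece
is balanced, for `q ≥ 11` it is generated by the four group and the odd tori of its involutions.
-/

set_option autoImplicit false
set_option linter.unusedSectionVars false
set_option linter.style.haveILetI false

namespace Cfsg.Agent.H88.Walter.ShapeOdd

open Subgroup Cfsg.Agent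
open Cfsg.Agent.H10.Walter (IsOddPSL)
open Cfsg.Agent.H29.Walter (mem_closure_pair_cases)

universe u

variable {L : Type u} [Group L] [Finite L]

theorem center_eq_bot (hs : IsSimpleGroup L) (hn : ¬ IsMulCommutative L) : center L = ⊥ :=
  (inferInstance : (center L).Normal).eq_bot_or_eq_top.resolve_right fun h =>
    hn ⟨⟨fun a b => (mem_center_iff.1 (h ▸ mem_top b) a)⟩⟩

theorem card_sylow (hL : IsOddPSL L) (P : Sylow 2 L) : Nat.card (P : Subgroup L) = 4 := by
  haveI : Fact (Nat.Prime 2) := ⟨Nat.prime_two⟩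
  have h8 := H29.Walter.card_mod_eight hL
  obtain ⟨k, hk⟩ := IsPGroup.iff_card.mp P.isPGroup'
  have hlow : 2 ^ 2 ∣ Nat.card (P : Subgroup L) :=
    P.pow_dvd_card_of_pow_dvd_card (by norm_num; omega)
  have hhigh : Nat.card (P : Subgroup L) ∣ Nat.card L := card_subgroup_dvd_card _
  rw [hk] at hlow hhigh ⊢
  have h2 : 2 ≤ k := (Nat.pow_dvd_pow_iff_le_right (by norm_num)).1 hlow
  rcases eq_or_lt_of_le h2 with h | h
  · rw [← h]; norm_num
  · have : 2 ^ 3 ∣ Nat.card L := (pow_dvd_pow 2 h).trans hhigh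
    norm_num at this
    omega

theorem sylow_sq (hn : ¬ IsMulCommutative L) (hL : IsOddPSL L) (P : Sylow 2 L) :
    ∀ x ∈ (P : Subgroup L), x * x = 1 := by
  haveI : Fact (Nat.Prime 2) := ⟨Nat.prime_two⟩
  haveI := H29.Walter.isSimpleGroup hL
  intro x hx
  by_contra hx2
  have h4 := card_sylow hL P
  have hord : orderOf x = 4 := by
    have hd : orderOf x ∣ 2 ^ 2 := by
      have := Subgroup.orderOf_dvd_natCard _ hx
      rwa [h4] at this
    obtain ⟨k, hk, hk'⟩ := (Nat.dvd_prime_pow Nat.prime_two).1 hd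
    rcases (show k = 0 ∨ k = 1 ∨ k = 2 by omega) with rfl | rfl | rfl
    · rw [pow_zero, orderOf_eq_one_iff] at hk'
      exact absurd (by rw [hk', one_mul]) hx2
    · rw [pow_one] at hk'
      exact absurd (by rw [← pow_two, ← hk', pow_orderOf_eq_one]) hx2
    · simpa using hk'
  have hcyc : IsCyclic (P : Subgroup L) :=
    isCyclic_of_orderOf_eq_card ⟨x, hx⟩ (by rw [Subgroup.orderOf_mk, hord, h4])
  have h8 := H29.Walter.card_mod_eight hL
  have hmin : (Nat.card L).minFac = 2 := (Nat.minFac_eq_two_iff _).2 (by omega)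
  have hc := (IsCyclic.isComplement' hmin hcyc).card_mul_card
  rcases (inferInstance : (MonoidHom.transferSylow P
      (hcyc.normalizer_le_centralizer hmin)).ker.Normal).eq_bot_or_eq_top with h | h
  · rw [h, Subgroup.card_bot, one_mul] at hc
    have htop : (P : Subgroup L) = ⊤ := eq_top_of_card_eq _ hc
    refine hn ⟨⟨fun a b => ?_⟩⟩
    haveI := hcyc
    letI := IsCyclic.commGroup (α := (P : Subgroup L))
    exact congrArg Subtype.val
      (mul_comm (⟨a, htop ▸ mem_top a⟩ : (P : Subgroup L)) ⟨b, htop ▸ mem_top b⟩)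
  · rw [h, Subgroup.card_top, h4] at hc
    omega

/-- The involutions of a Sylow subgroup. -/
theorem exists_second (hn : ¬ IsMulCommutative L) (hL : IsOddPSL L) (P : Sylow 2 L) {x : L}
    (hx : x ∈ (P : Subgroup L)) (hx1 : x ≠ 1) :
    ∃ y, y ≠ 1 ∧ y * y = 1 ∧ Commute x y ∧ x ≠ y ∧
      (P : Subgroup L) = closure ({x, y} : Set L) := by
  have hsq := sylow_sq hn hL P
  have h4 := card_sylow hL P
  have hxy : ∀ y ∈ (P : Subgroup L), Commute x y := fun y hy => by
    have h := hsq _ (mul_mem hx hy)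
    rw [mul_eq_one_iff_eq_inv, mul_inv_rev, inv_eq_of_mul_eq_one_left (hsq x hx),
      inv_eq_of_mul_eq_one_left (hsq y hy)] at h
    exact h
  obtain ⟨y, hy, hy1, hyx⟩ : ∃ y ∈ (P : Subgroup L), y ≠ 1 ∧ y ≠ x := by
    by_contra hcon
    push Not at hcon
    have hsub : ((P : Subgroup L) : Set L) ⊆ {1, x} := fun y hy => by
      by_cases h1 : y = 1
      · exact Or.inl h1
      · exact Or.inr (hcon y hy h1)
    have := Set.ncard_le_ncard hsub (Set.toFinite _)
    rw [← Nat.card_coe_set_eq, SetLike.coe_sort_coe, h4, Set.ncard_pair hx1.symm] at this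
    omega
  refine ⟨y, hy1, hsq y hy, hxy y hy, hyx.symm, ?_⟩
  obtain ⟨Q, hQ, hQ4⟩ := H29.Walter.exists_sylow_pair hL hx1 (hsq x hx) hy1 (hsq y hy) (hxy y hy)
    hyx.symm
  refine (eq_of_le_of_card_ge ((closure_le _).2 ?_) ?_).symm
  · rintro _ (rfl | rfl)
    exacts [hx, hy]
  · rw [← hQ, hQ4, h4]

theorem cyc (hn : ¬ IsMulCommutative L) (hL : IsOddPSL L) (P : Sylow 2 L) :
    ∃ y ∈ normalizer ((P : Subgroup L) : Set L), ∀ x ∈ (P : Subgroup L), ∀ z ∈ (P : Subgroup L),
      x ≠ 1 → z ≠ 1 → ∃ k : ℕ, y ^ k * x * (y ^ k)⁻¹ = z := by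
  obtain ⟨a, ha, ha1⟩ := (P : Subgroup L).bot_or_exists_ne_one.resolve_left fun h => by
    have := card_sylow hL P
    rw [h, Subgroup.card_bot] at this
    omega
  obtain ⟨b, hb1, hb2, hab, hne, hP⟩ := exists_second hn hL P ha ha1
  have ha2 := sylow_sq hn hL P a ha
  obtain ⟨n, -, hna, hnb⟩ := H29.Walter.exists_fuse hL ha1 ha2 hb1 hb2 hab hne
  have hnab : n * (a * b) * n⁻¹ = a := by
    rw [show n * (a * b) * n⁻¹ = n * a * n⁻¹ * (n * b * n⁻¹) by group, hna, hnb, hab.eq,
      ← mul_assoc, hb2, one_mul]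
  have hsq' : ∀ i : ℕ, n ^ (i + 1) * a * (n ^ (i + 1))⁻¹ = n * (n ^ i * a * (n ^ i)⁻¹) * n⁻¹ := by
    intro i
    rw [pow_succ']
    group
  have h2 : n ^ 2 * a * (n ^ 2)⁻¹ = a * b := by rw [hsq' 1, pow_one, hna, hnb]
  have h3 : Commute (n ^ 3) a := mul_inv_eq_iff_eq_mul.1 (by rw [hsq' 2, h2, hnab])
  refine ⟨n, ?_, ?_⟩
  · refine Components.mem_normalizer_of_map_conj_eq ?_
    refine eq_of_le_of_card_ge ?_ (by rw [card_map_of_injective (MulAut.conj n).injective])
    rw [hP, MonoidHom.map_closure, closure_le]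
    rintro _ ⟨z, rfl | rfl, rfl⟩
    · exact subset_closure (Or.inr hna)
    · show n * z * n⁻¹ ∈ _
      rw [hnb]
      exact mul_mem (subset_closure (Or.inl rfl)) (subset_closure (Or.inr rfl))
  · have hall : ∀ x ∈ (P : Subgroup L), x ≠ 1 → ∃ i : ℕ, n ^ i * a * (n ^ i)⁻¹ = x := by
      intro x hx hx1
      rw [hP] at hx
      rcases mem_closure_pair_cases ha2 hb2 hab hx with rfl | rfl | rfl | rfl
      · exact absurd rfl hx1
      · exact ⟨0, by simp⟩
      · exact ⟨1, by rw [pow_one, hna]⟩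
      · exact ⟨2, h2⟩
    intro x hx z hz hx1 hz1
    obtain ⟨i, rfl⟩ := hall x hx hx1
    obtain ⟨j, rfl⟩ := hall z hz hz1
    refine ⟨j + 2 * i, ?_⟩
    calc n ^ (j + 2 * i) * (n ^ i * a * (n ^ i)⁻¹) * (n ^ (j + 2 * i))⁻¹
        = n ^ j * ((n ^ 3) ^ i * a * ((n ^ 3) ^ i)⁻¹) * (n ^ j)⁻¹ := by
          rw [← pow_mul, pow_add, show 3 * i = 2 * i + i by omega, pow_add]
          group
      _ = n ^ j * a * (n ^ j)⁻¹ := by rw [(h3.pow_left i).eq, mul_inv_cancel_right]

theorem centralizer_le (hn : ¬ IsMulCommutative L) (hL : IsOddPSL L) (P : Sylow 2 L) :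
    centralizer ((P : Subgroup L) : Set L) ≤ (P : Subgroup L) := by
  obtain ⟨a, ha, ha1⟩ := (P : Subgroup L).bot_or_exists_ne_one.resolve_left fun h => by
    have := card_sylow hL P
    rw [h, Subgroup.card_bot] at this
    omega
  obtain ⟨b, hb1, hb2, hab, hne, hP⟩ := exists_second hn hL P ha ha1
  intro g hg
  have hb : b ∈ (P : Subgroup L) := hP ▸ subset_closure (Or.inr rfl)
  rcases H29.Walter.centralizer_pair_le hL ha1 (sylow_sq hn hL P a ha) hb1 hb2 hab hne
    (mem_centralizer_iff.1 hg a ha).symm (mem_centralizer_iff.1 hg b hb).symm with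
    rfl | rfl | rfl | rfl
  exacts [one_mem _, ha, hb, mul_mem ha hb]

theorem fixTrivialAt (hn : ¬ IsMulCommutative L) (hL : IsOddPSL L) (P : Sylow 2 L) {x : L}
    (hx : x ∈ (P : Subgroup L)) (hx1 : x ≠ 1) : FixTrivialAt (P : Subgroup L) x := by
  haveI := H29.Walter.isSimpleGroup hL
  have hsq := sylow_sq hn hL P
  obtain ⟨y, hy1, hy2, hxy, hne, hP⟩ := exists_second hn hL P hx hx1
  intro W hW hfix hC
  refine eq_bot_of_fixes hsq (centralizer_le hn hL P) ?_ hx ?_
    (center_eq_bot inferInstance hn) hW hfix hC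
  · intro z hz
    rw [hP] at hz
    rw [mem_centralizer_singleton_iff]
    rcases mem_closure_pair_cases (hsq x hx) hy2 hxy hz with rfl | rfl | rfl | rfl
    · simp
    · rfl
    · exact hxy.eq.symm
    · exact ((Commute.refl x).mul_left hxy.symm).eq
  · exact fun φ hφ _ _ hfixC => H29.Walter.eq_one_of_fixes_centralizer hL hx1 (hsq x hx) hy1 hy2
      hxy hne hφ fun c hc => hfixC c (mem_centralizer_singleton_iff.2 hc.eq)

theorem oddTrivialAt_of_five (hn : ¬ IsMulCommutative L) (hL : IsOddPSL L)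
    (h60 : Nat.card L = 60) (P : Sylow 2 L) {x : L} (hx : x ∈ (P : Subgroup L)) (hx1 : x ≠ 1) :
    H21.Walter.OddTrivialAt x := by
  haveI := H29.Walter.isSimpleGroup hL
  have hsq := sylow_sq hn hL P
  obtain ⟨y, hy1, hy2, hxy, hne, hP⟩ := exists_second hn hL P hx hx1
  refine H21.Walter.oddTrivialAt_of_rigid (center_eq_bot inferInstance hn) ?_
    fun φ hφ hfix => H29.Walter.eq_one_of_fixes_centralizer hL hx1 (hsq x hx) hy1 hy2 hxy hne hφ
      fun c hc => hfix c (mem_centralizer_singleton_iff.2 hc.eq)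
  intro X hX hodd _
  rw [eq_bot_iff]
  intro g hg
  have hgP : g ∈ (P : Subgroup L) := hP ▸ H29.Walter.commute_cases_of_five hL h60 hx1 (hsq x hx)
    hy1 hy2 hxy hne (mem_centralizer_singleton_iff.1 (hX hg))
  exact mem_bot.2 (H29.Walter.coprime_two_of_odd
    (hodd.of_dvd_nat (Subgroup.orderOf_dvd_natCard _ hg)) (hsq g hgP))

theorem unbal (hn : ¬ IsMulCommutative L) (hL : IsOddPSL L) (h60 : Nat.card L ≠ 60)
    (P : Sylow 2 L) : Unbal (P : Subgroup L) := by
  refine ⟨card_sylow hL P, ?_⟩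
  obtain ⟨a, ha, ha1⟩ := (P : Subgroup L).bot_or_exists_ne_one.resolve_left fun h => by
    have := card_sylow hL P
    rw [h, Subgroup.card_bot] at this
    omega
  obtain ⟨b, hb1, hb2, hab, hne, hP⟩ := exists_second hn hL P ha ha1
  have hb : b ∈ (P : Subgroup L) := hP ▸ subset_closure (Or.inr rfl)
  have ha2 := sylow_sq hn hL P a ha
  obtain ⟨F, _, _, h5, h8, ⟨e⟩⟩ := hL
  have hodd : Odd (Fintype.card F) := Nat.odd_iff.2 (by omega)
  have h11 : 11 ≤ Fintype.card F := by
    by_contra hcon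
    have hq : Fintype.card F = 5 := by omega
    have h := H56.CTwoAb.card_psl_two_odd (F := F) (by omega)
    rw [hq] at h
    rw [Nat.card_congr e.toEquiv] at h60
    norm_num at h
    omega
  set K := closure (((P : Subgroup L) : Set L) ∪ invSet (P : Subgroup L)) with hK
  have htor : ∀ (v s : L), v ∈ (P : Subgroup L) → v ≠ 1 → v * v = 1 → s ∈ (P : Subgroup L) →
      s * s = 1 → s ≠ 1 → s ≠ v → Commute s v →
      PSL.torus (e v) ≤ K.map e.toMonoidHom := by
    intro v s hv hv1 hv2 hs hs2 hs1 hsv hc t ht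
    have hev1 : e v ≠ 1 := by simpa using hv1
    have hev2 : e v * e v = 1 := by rw [← map_mul, hv2, map_one]
    obtain ⟨-, hinv⟩ := PSL.inverts hodd hev1 hev2 (hc.map e) (by rw [← map_mul, hs2, map_one])
      (by simpa using hs1) (fun h => hsv (e.injective h))
    refine ⟨e.symm t, subset_closure (Or.inr ⟨?_, v, hv, hv1, ?_, s, hs, ?_⟩), e.apply_symm_apply t⟩
    · rw [MulEquiv.orderOf_eq]
      exact (PSL.torus_props h8 h11 hev1 hev2).1.of_dvd_nat (Subgroup.orderOf_dvd_natCard _ ht)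
    · refine e.injective ?_
      rw [map_mul, map_mul, e.apply_symm_apply]
      exact Linear.Dickson.cen_comm hev1 (PSL.torus_le _ ht) (Linear.Dickson.mem_cen_self _)
    · refine e.injective ?_
      rw [map_mul, map_mul, map_inv, map_inv, e.apply_symm_apply]
      exact hinv t (PSL.torus_le _ ht)
  refine (map_injective e.injective : Function.Injective (map e.toMonoidHom)) ?_
  rw [map_top_of_surjective _ e.surjective, eq_top_iff]
  refine (PSL.generated h8 h11 (v := e a) (u := e b) (by simpa using ha1)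
    (by rw [← map_mul, ha2, map_one]) (hab.symm.map e) (by rw [← map_mul, hb2, map_one])
    (by simpa using hb1) (fun h => hne (e.injective h).symm)).symm.le.trans
    (sup_le (sup_le (htor a b ha ha1 ha2 hb hb2 hb1 hne.symm hab.symm)
      (htor b a hb hb1 hb2 ha ha2 ha1 hne hab)) ((closure_le _).2 ?_))
  rintro _ (rfl | rfl)
  · exact ⟨a, subset_closure (Or.inl ha), rfl⟩
  · exact ⟨b, subset_closure (Or.inl hb), rfl⟩

/-- The pieces `PSL₂(q)`, `q ≡ 3, 5 (mod 8)`, are good. -/
theorem goodPiece (L : Type u) [Group L] [Finite L] (_ : IsSimpleGroup L)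
    (hn : ¬ IsMulCommutative L) (_ : H10.Walter.AbSyl L) (hL : IsOddPSL L) (P : Sylow 2 L) :
    GoodPiece (P : Subgroup L) where
  sq := sylow_sq hn hL P
  four := (card_sylow hL P).ge
  cyc := cyc hn hL P
  fix := fun _ hx hx1 => fixTrivialAt hn hL P hx hx1
  type := (em (Nat.card L = 60)).symm.imp (fun h => unbal hn hL h P)
    fun h _ hx hx1 => oddTrivialAt_of_five hn hL h P hx hx1

end Cfsg.Agent.H88.Walter.ShapeOdd
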